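import Cfsg.Agent.Helper18.LongWord
import Cfsg.Prelude.Def_ChevAutomorphisms

/-!
Helper18: table checks for the determination of the automorphisms of the Chevalley groups: the action of the
longest element on the fundamental roots, commutation of fundamental root subgroups, Cartan integers,
connectedness of the Dynkin diagrams.
-/

set_option autoImplicit false
set_option maxRecDepth 100000

namespace Cfsg.Agent.Helper18.Aut

open Cfsg Cfsg.Lie Cfsg.Agent.Helper18

/-- the longest element maps `-p_i` to `p_{star i}` -/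
def starOK (D : ChevalleyDatum) (tabs w star : List ℕ) : Bool :=
  (List.range D.rank).all fun i =>
    decide (star.getD i 0 < D.rank) &&
    (rhoFast tabs w (D.neg (D.simple i)) == D.simple (star.getD i 0)) &&
    ((List.range D.rank).any fun k => star.getD k 0 == i)

theorem starOK_G2 : starOK chevG2 reflTabsG2 longWordG2 [0, 1] = true := by decide +kernel
theorem starOK_B2 : starOK chevB2 reflTabsB2 longWordB2 [0, 1] = true := by decide +kernel
theorem starOK_D4 : starOK chevD4 reflTabsD4 longWordD4 [0, 1, 2, 3] = true := by decide +kernel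
theorem starOK_F4 : starOK chevF4 reflTabsF4 longWordF4 [0, 1, 2, 3] = true := by decide +kernel
theorem starOK_E6 : starOK chevE6 reflTabsE6 longWordE6 [5, 1, 4, 3, 2, 0] = true := by decide +kernel
theorem starOK_E7 : starOK chevE7 reflTabsE7 longWordE7 [0, 1, 2, 3, 4, 5, 6] = true := by decide +kernel
theorem starOK_E8 : starOK chevE8 reflTabsE8 longWordE8 [0, 1, 2, 3, 4, 5, 6, 7] = true := by decide +kernel

/-- facts about pairs of fundamental roots -/
def fundOK (D : ChevalleyDatum) : Bool :=
  (List.range D.rank).all fun i =>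
    decide (D.cartan i (D.simple i) = 2) &&
    (List.range D.rank).all fun j => (i == j) || (
      decide (D.commTerms (D.simple i) (D.neg (D.simple j)) = []) &&
      decide (D.neg (D.simple j) ≠ D.simple i) && decide (D.neg (D.simple j) ≠ D.neg (D.simple i)) &&
      decide (D.simple j ≠ D.simple i) && decide (D.simple j ≠ D.neg (D.simple i)) &&
      (if D.bonds i j = 0 then decide (D.commTerms (D.simple i) (D.simple j) = [])
       else decide (D.reflectRoot j (D.simple i) ≠ D.simple i)) &&
      decide (D.cartan i (D.simple j) ≤ 0) &&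
      (decide (D.bonds i j = 0) || decide (D.cartan i (D.simple j) = -1) || decide (D.cartan j (D.simple i) = -1)))

theorem fundOK_G2 : fundOK chevG2 = true := by decide +kernel
theorem fundOK_B2 : fundOK chevB2 = true := by decide +kernel
theorem fundOK_D4 : fundOK chevD4 = true := by decide +kernel
theorem fundOK_F4 : fundOK chevF4 = true := by decide +kernel
theorem fundOK_E6 : fundOK chevE6 = true := by decide +kernel
theorem fundOK_E7 : fundOK chevE7 = true := by decide +kernel
theorem fundOK_E8 : fundOK chevE8 = true := by decide +kernel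

theorem fundOK_of_mem (D : ChevalleyDatum)
    (hD : D ∈ [chevG2, chevB2, chevD4, chevF4, chevE6, chevE7, chevE8]) : fundOK D = true := by
  simp only [List.mem_cons, List.not_mem_nil, or_false] at hD
  rcases hD with rfl | rfl | rfl | rfl | rfl | rfl | rfl
  exacts [fundOK_G2, fundOK_B2, fundOK_D4, fundOK_F4, fundOK_E6, fundOK_E7, fundOK_E8]

/-- a spanning tree of the Dynkin diagram, as a list of (child, parent) pairs -/
def treeOK (D : ChevalleyDatum) : List (ℕ × ℕ) → List ℕ → Bool
  | [], reached => (List.range D.rank).all fun i => decide (i ∈ reached)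
  | (c, p) :: rest, reached =>
      decide (p ∈ reached) && decide (D.bonds c p ≠ 0) && decide (c < D.rank) && decide (p < D.rank) &&
        treeOK D rest (c :: reached)

theorem treeOK_spec (D : ChevalleyDatum) (P : ℕ → Prop)
    (hstep : ∀ c p, c < D.rank → p < D.rank → D.bonds c p ≠ 0 → P p → P c) :
    ∀ (ord : List (ℕ × ℕ)) (reached : List ℕ), treeOK D ord reached = true → (∀ r ∈ reached, P r) →
      ∀ i < D.rank, P i := by
  intro ord
  induction ord with
  | nil =>
    intro reached h hP i hi
    unfold treeOK at h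
    rw [List.all_eq_true] at h
    have := h i (List.mem_range.mpr hi)
    rw [decide_eq_true_eq] at this
    exact hP i this
  | cons a rest ih =>
    intro reached h hP
    obtain ⟨c, p⟩ := a
    unfold treeOK at h
    simp only [Bool.and_eq_true, decide_eq_true_eq] at h
    obtain ⟨⟨⟨⟨h1, h2⟩, h3⟩, h4⟩, h5⟩ := h
    apply ih (c :: reached) h5
    intro r hr
    rcases List.mem_cons.mp hr with rfl | hr
    · exact hstep _ p h3 h4 h2 (hP p h1)
    · exact hP r hr

def treeG2 : List (ℕ × ℕ) := [(1, 0)]
def treeD4 : List (ℕ × ℕ) := [(1, 0), (2, 1), (3, 1)]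
def treeF4 : List (ℕ × ℕ) := [(1, 0), (2, 1), (3, 2)]
def treeE6 : List (ℕ × ℕ) := [(2, 0), (3, 2), (1, 3), (4, 3), (5, 4)]
def treeE7 : List (ℕ × ℕ) := [(2, 0), (3, 2), (1, 3), (4, 3), (5, 4), (6, 5)]
def treeE8 : List (ℕ × ℕ) := [(2, 0), (3, 2), (1, 3), (4, 3), (5, 4), (6, 5), (7, 6)]

theorem treeOK_G2 : treeOK chevG2 treeG2 [0] = true := by decide +kernel
theorem treeOK_B2 : treeOK chevB2 treeG2 [0] = true := by decide +kernel
theorem treeOK_D4 : treeOK chevD4 treeD4 [0] = true := by decide +kernel
theorem treeOK_F4 : treeOK chevF4 treeF4 [0] = true := by decide +kernel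
theorem treeOK_E6 : treeOK chevE6 treeE6 [0] = true := by decide +kernel
theorem treeOK_E7 : treeOK chevE7 treeE7 [0] = true := by decide +kernel
theorem treeOK_E8 : treeOK chevE8 treeE8 [0] = true := by decide +kernel

theorem exists_tree (D : ChevalleyDatum)
    (hD : D ∈ [chevG2, chevB2, chevD4, chevF4, chevE6, chevE7, chevE8]) :
    ∃ ord, treeOK D ord [0] = true := by
  simp only [List.mem_cons, List.not_mem_nil, or_false] at hD
  rcases hD with rfl | rfl | rfl | rfl | rfl | rfl | rfl
  exacts [⟨_, treeOK_G2⟩, ⟨_, treeOK_B2⟩, ⟨_, treeOK_D4⟩, ⟨_, treeOK_F4⟩, ⟨_, treeOK_E6⟩, ⟨_, treeOK_E7⟩,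
    ⟨_, treeOK_E8⟩]

end Cfsg.Agent.Helper18.Aut
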