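import Cfsg.Agent.Helper6.BN5

/-!
Helper18: automorphisms of a finite group with a split (B,N)-pair, first reduction (abstract part of
Steinberg's theorem on the automorphisms of the Chevalley groups).  Given a (B,N)-pair with `B = N_G(U)`,
`U` a Sylow `p`-subgroup, an opposite subgroup `V = n₀ U n₀⁻¹`, and "root subgroups" `Xm i = V ∩ P_i`,
`Xp (star i) = n₀ (Xm i) n₀⁻¹`, every automorphism can be composed with an inner automorphism so that it
permutes the `Xp i` and the `Xm i` by one and the same permutation of the index set.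
-/

set_option autoImplicit false

namespace Cfsg.Agent.Helper18.Aut

open Cfsg Cfsg.Agent.Helper6

variable {G : Type*} [Group G]

/-- the conjugate `g K g⁻¹` -/
def cjg (g : G) (K : Subgroup G) : Subgroup G := K.map (MulAut.conj g).toMonoidHom

theorem mem_cjg {g x : G} {K : Subgroup G} : x ∈ cjg g K ↔ g⁻¹ * x * g ∈ K := by
  unfold cjg
  constructor
  · rintro ⟨y, hy, rfl⟩
    have : g⁻¹ * ((MulAut.conj g).toMonoidHom y) * g = y := by
      show g⁻¹ * (g * y * g⁻¹) * g = y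
      group
    rw [this]; exact hy
  · intro h
    refine ⟨g⁻¹ * x * g, h, ?_⟩
    show g * (g⁻¹ * x * g) * g⁻¹ = x
    group

theorem conj_mem_cjg {g y : G} {K : Subgroup G} (hy : y ∈ K) : g * y * g⁻¹ ∈ cjg g K := by
  rw [mem_cjg]
  have : g⁻¹ * (g * y * g⁻¹) * g = y := by group
  rw [this]; exact hy

theorem cjg_mul (a b : G) (K : Subgroup G) : cjg (a * b) K = cjg a (cjg b K) := by
  ext x
  simp only [mem_cjg]
  have : (a * b)⁻¹ * x * (a * b) = b⁻¹ * (a⁻¹ * x * a) * b := by group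
  rw [this]

theorem cjg_one (K : Subgroup G) : cjg 1 K = K := by
  ext x
  simp [mem_cjg]

theorem cjg_inv_cjg (a : G) (K : Subgroup G) : cjg a⁻¹ (cjg a K) = K := by
  rw [← cjg_mul, inv_mul_cancel, cjg_one]

theorem cjg_cjg_inv (a : G) (K : Subgroup G) : cjg a (cjg a⁻¹ K) = K := by
  rw [← cjg_mul, mul_inv_cancel, cjg_one]

theorem cjg_mono (a : G) {K L : Subgroup G} (h : K ≤ L) : cjg a K ≤ cjg a L :=
  Subgroup.map_mono h

theorem cjg_inf (a : G) (K L : Subgroup G) : cjg a (K ⊓ L) = cjg a K ⊓ cjg a L := by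
  ext x
  simp only [mem_cjg, Subgroup.mem_inf]

theorem cjg_bot (a : G) : cjg a (⊥ : Subgroup G) = ⊥ := by
  ext x
  simp only [mem_cjg, Subgroup.mem_bot]
  constructor
  · intro h
    have : x = a * (a⁻¹ * x * a) * a⁻¹ := by group
    rw [this, h]; group
  · rintro rfl; group

theorem cjg_eq_self_of_mem {a : G} {K : Subgroup G} (ha : a ∈ K) : cjg a K = K := by
  ext x
  rw [mem_cjg]
  constructor
  · intro h
    have : x = a * (a⁻¹ * x * a) * a⁻¹ := by group
    rw [this]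
    exact K.mul_mem (K.mul_mem ha h) (K.inv_mem ha)
  · intro h
    exact K.mul_mem (K.mul_mem (K.inv_mem ha) h) ha

theorem card_cjg (a : G) (K : Subgroup G) : Nat.card (cjg a K) = Nat.card K := by
  unfold cjg
  exact Nat.card_congr ((MulAut.conj a).subgroupMap K).toEquiv.symm

/-- image of a subgroup under an automorphism -/
def im (θ : G ≃* G) (K : Subgroup G) : Subgroup G := K.map θ.toMonoidHom

theorem mem_im {θ : G ≃* G} {K : Subgroup G} {x : G} : x ∈ im θ K ↔ θ.symm x ∈ K := by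
  unfold im
  constructor
  · rintro ⟨y, hy, rfl⟩
    simpa using hy
  · intro h
    exact ⟨θ.symm x, h, by simp⟩

theorem apply_mem_im {θ : G ≃* G} {K : Subgroup G} {x : G} (hx : x ∈ K) : θ x ∈ im θ K := by
  rw [mem_im]; simpa using hx

theorem apply_mem_im_iff {θ : G ≃* G} {K : Subgroup G} {x : G} : θ x ∈ im θ K ↔ x ∈ K := by
  rw [mem_im]; simp

theorem im_inf (θ : G ≃* G) (K L : Subgroup G) : im θ (K ⊓ L) = im θ K ⊓ im θ L := by
  ext x
  simp only [mem_im, Subgroup.mem_inf]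

theorem im_bot (θ : G ≃* G) : im θ (⊥ : Subgroup G) = ⊥ := by
  ext x
  simp only [mem_im, Subgroup.mem_bot]
  constructor
  · intro h
    have := congrArg θ h
    simpa using this
  · rintro rfl; simp

theorem im_mono (θ : G ≃* G) {K L : Subgroup G} (h : K ≤ L) : im θ K ≤ im θ L := Subgroup.map_mono h

theorem im_trans (θ ψ : G ≃* G) (K : Subgroup G) : im (θ.trans ψ) K = im ψ (im θ K) := by
  ext x
  simp only [mem_im]
  rfl

theorem im_symm_im (θ : G ≃* G) (K : Subgroup G) : im θ.symm (im θ K) = K := by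
  ext x
  simp only [mem_im]
  simp

theorem im_im_symm (θ : G ≃* G) (K : Subgroup G) : im θ (im θ.symm K) = K := by
  ext x
  simp only [mem_im]
  simp

theorem im_conj (g : G) (K : Subgroup G) : im (MulAut.conj g) K = cjg g K := rfl

theorem card_im (θ : G ≃* G) (K : Subgroup G) : Nat.card (im θ K) = Nat.card K := by
  unfold im
  exact Nat.card_congr (θ.subgroupMap K).toEquiv.symm

theorem im_cjg (θ : G ≃* G) (g : G) (K : Subgroup G) : im θ (cjg g K) = cjg (θ g) (im θ K) := by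
  ext x
  simp only [mem_im, mem_cjg]
  have : θ.symm ((θ g)⁻¹ * x * θ g) = g⁻¹ * θ.symm x * g := by simp
  rw [this]

/-- a subgroup with the order of a Sylow subgroup is conjugate to it -/
theorem exists_cjg_eq_of_card [Finite G] {p : ℕ} [Fact p.Prime] (Q : Sylow p G) (K : Subgroup G)
    (hK : Nat.card K = Nat.card Q) : ∃ g : G, cjg g K = Q := by
  have hcard : Nat.card K = p ^ (Nat.card G).factorization p := by
    rw [hK]; exact Q.card_eq_multiplicity
  let Q' : Sylow p G := Sylow.ofCard K hcard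
  obtain ⟨g, hg⟩ := MulAction.exists_smul_eq G Q' Q
  refine ⟨g, ?_⟩
  have h1 : ((g • Q' : Sylow p G) : Subgroup G) = (Q : Subgroup G) := by rw [hg]
  rw [← h1]
  ext x
  rw [mem_cjg, Sylow.coe_subgroup_smul]
  rw [Subgroup.mem_pointwise_smul_iff_inv_smul_mem]
  show _ ↔ (MulAut.conj g)⁻¹ • x ∈ K
  rw [← map_inv, MulAut.smul_def, MulAut.conj_apply, inv_inv]


/-- the hypotheses of the first reduction -/
structure L1Hyp (P : BNPair G) (p : ℕ) (U V : Subgroup G) {I : Type*} (s : I → G)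
    (Xp Xm : I → Subgroup G) (n₀ : G) (star : I → I) : Prop where
  sylow : ∃ Q : Sylow p G, (Q : Subgroup G) = U
  U_le : U ≤ P.B
  U_norm : ∀ b ∈ P.B, cjg b U = U
  S_eq : P.S = Set.range s
  s_not_norm : ∀ i, cjg (s i) U ≠ U
  B_inf_V : P.B ⊓ V = ⊥
  n0_mem : n₀ ∈ P.N
  n0_U : cjg n₀ U = V
  n0_V : cjg n₀ V = U
  opp : ∀ n ∈ P.N, cjg n U ⊓ U = ⊥ → cjg n U = V
  V_conj : ∀ b ∈ P.B, ∃ u ∈ U, cjg b V = cjg u V
  Xm_le_V : ∀ i, Xm i ≤ V
  Xm_le_P : ∀ i, Xm i ≤ P.parabolic {s i}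
  para : ∀ i, ∀ g ∈ P.parabolic {s i},
    g ∈ P.B ∨ (∃ b ∈ P.B, g = b * s i) ∨ (∃ b ∈ P.B, ∃ y ∈ Xm i, g = b * y)
  Xp_eq : ∀ i, cjg n₀ (Xm i) = Xp (star i)
  star_surj : Function.Surjective star
  comm : ∀ i j, i ≠ j → ∀ a ∈ Xp i, ∀ b ∈ Xm j, a * b = b * a
  ncomm : ∀ i, ∃ a ∈ Xp i, ∃ b ∈ Xm i, a * b ≠ b * a

section L1

variable {P : BNPair G} {p : ℕ} {U V : Subgroup G} {I : Type*} {s : I → G}
  {Xp Xm : I → Subgroup G} {n₀ : G} {star : I → I}

theorem L1Hyp.s_mem (h : L1Hyp P p U V s Xp Xm n₀ star) (i : I) : s i ∈ P.S := by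
  rw [h.S_eq]; exact ⟨i, rfl⟩

/-- `N_G(U) = B` -/
theorem L1Hyp.normalizer_eq (h : L1Hyp P p U V s Xp Xm n₀ star) (g : G) (hg : cjg g U = U) : g ∈ P.B := by
  -- the normaliser of `U` as a subgroup
  let M : Subgroup G :=
    { carrier := {g | cjg g U = U}
      one_mem' := cjg_one U
      mul_mem' := by
        intro a b ha hb
        show cjg (a * b) U = U
        rw [cjg_mul, (hb : cjg b U = U), (ha : cjg a U = U)]
      inv_mem' := by
        intro a ha
        show cjg a⁻¹ U = U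
        have ha' : cjg a U = U := ha
        conv_lhs => rw [← ha']
        exact cjg_inv_cjg a U }
  have hM : P.B ≤ M := fun b hb => h.U_norm b hb
  have hMp := overgroup_eq_parabolic M hM
  have hJ : {t | t ∈ P.S ∧ t ∈ M} = (∅ : Set G) := by
    ext t
    simp only [Set.mem_ofPred_eq, Set.mem_empty_iff_false, iff_false, not_and]
    intro ht htM
    rw [h.S_eq] at ht
    obtain ⟨i, rfl⟩ := ht
    exact h.s_not_norm i htM
  rw [hJ, parabolic_empty] at hMp
  have : g ∈ M := hg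
  rw [hMp] at this
  exact this

/-- an automorphism stabilising `U` stabilises `B` -/
theorem L1Hyp.im_B (h : L1Hyp P p U V s Xp Xm n₀ star) (ψ : G ≃* G) (hU : im ψ U = U) : im ψ P.B = P.B := by
  have key : ∀ (φ : G ≃* G), im φ U = U → im φ P.B ≤ P.B := by
    intro φ hφ x hx
    rw [mem_im] at hx
    apply h.normalizer_eq
    have h1 := h.U_norm _ hx
    have h2 := congrArg (im φ) h1
    rw [im_cjg, hφ] at h2
    simpa using h2
  apply le_antisymm (key ψ hU)
  have hU' : im ψ.symm U = U := by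
    conv_lhs => rw [← hU]
    exact im_symm_im ψ U
  have := im_mono ψ (key ψ.symm hU')
  rwa [im_im_symm] at this

/-- `V ∩ P_i = X_{-i}` -/
theorem L1Hyp.V_inf_parabolic (h : L1Hyp P p U V s Xp Xm n₀ star) (i : I) :
    V ⊓ P.parabolic {s i} = Xm i := by
  apply le_antisymm
  · intro v hv
    obtain ⟨hvV, hvP⟩ := Subgroup.mem_inf.mp hv
    rcases h.para i v hvP with hb | ⟨b, hb, e⟩ | ⟨b, hb, y, hy, e⟩
    · have : v ∈ P.B ⊓ V := Subgroup.mem_inf.mpr ⟨hb, hvV⟩
      rw [h.B_inf_V, Subgroup.mem_bot] at this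
      rw [this]; exact (Xm i).one_mem
    · exfalso
      -- `s i = b⁻¹ v`, `v = n₀ u n₀⁻¹`
      have hsS := h.s_mem i
      have hsN : s i ∈ P.N := P.subset hsS
      rw [← h.n0_U, mem_cjg] at hvV
      set u := n₀⁻¹ * v * n₀ with hu
      have e1 : s i * n₀ = b⁻¹ * n₀ * u := by
        rw [hu, e]; group
      have h1 : s i * n₀ ∈ dc P n₀ := by
        rw [mem_dc]
        exact ⟨b⁻¹, P.B.inv_mem hb, u, h.U_le hvV, e1⟩
      have h2 := dc_eq_of_mem P h1
      have h3 := (bruhat_unique P (P.N.mul_mem hsN h.n0_mem) h.n0_mem).mp h2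
      have h4 : (s i * n₀)⁻¹ * n₀ ∈ P.B ⊓ P.N :=
        Subgroup.mem_inf.mpr ⟨h3, P.N.mul_mem (P.N.inv_mem (P.N.mul_mem hsN h.n0_mem)) h.n0_mem⟩
      have h5 := T_conj P h.n0_mem h4
      have e2 : n₀ * ((s i * n₀)⁻¹ * n₀) * n₀⁻¹ = (s i)⁻¹ := by group
      rw [e2] at h5
      exact S_not_mem_B P hsS (by simpa using P.B.inv_mem h5.1)
    · have hyV := h.Xm_le_V i hy
      have hbV : b ∈ V := by
        have : b = v * y⁻¹ := by rw [e]; group
        rw [this]; exact V.mul_mem hvV (V.inv_mem hyV)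
      have : b ∈ P.B ⊓ V := Subgroup.mem_inf.mpr ⟨hb, hbV⟩
      rw [h.B_inf_V, Subgroup.mem_bot] at this
      rw [e, this, one_mul]; exact hy
  · exact le_inf (h.Xm_le_V i) (h.Xm_le_P i)

/-- an automorphism stabilising `U` and `V` permutes the `Xm i` -/
theorem L1Hyp.perm_Xm (h : L1Hyp P p U V s Xp Xm n₀ star) (ψ : G ≃* G) (hU : im ψ U = U) (hV : im ψ V = V)
    (i : I) : ∃ j : I, im ψ (Xm i) = Xm j := by
  have hB := h.im_B ψ hU
  have hUs : im ψ.symm U = U := by
    conv_lhs => rw [← hU]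
    exact im_symm_im ψ U
  have hBs := h.im_B ψ.symm hUs
  -- images of overgroups of `B` are overgroups of `B`
  have hsi := h.s_mem i
  set M := im ψ (P.parabolic {s i}) with hMdef
  have hM : P.B ≤ M := by
    rw [← hB]; exact im_mono ψ (B_le_parabolic P _)
  have hMp := overgroup_eq_parabolic M hM
  set J := {t | t ∈ P.S ∧ t ∈ M} with hJdef
  have hJS : J ⊆ P.S := fun t ht => ht.1
  have hJne : J.Nonempty := by
    by_contra hne
    rw [Set.not_nonempty_iff_eq_empty] at hne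
    rw [hne, parabolic_empty] at hMp
    have h1 : im ψ.symm M = P.B := by rw [hMp, hBs]
    rw [hMdef, im_symm_im] at h1
    have : s i ∈ P.parabolic {s i} :=
      closure_le_parabolic P _ (Subgroup.subset_closure (Set.mem_singleton _))
    rw [h1] at this
    exact S_not_mem_B P hsi this
  obtain ⟨t, ht⟩ := hJne
  have htS : t ∈ P.S := ht.1
  have htj := htS
  rw [h.S_eq] at htj
  obtain ⟨j, rfl⟩ := htj
  have h1 : P.parabolic {s j} ≤ M := by
    rw [hMp]
    exact parabolic_mono (Set.singleton_subset_iff.mpr ht)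
  -- pull back
  set M' := im ψ.symm (P.parabolic {s j}) with hM'def
  have hM' : P.B ≤ M' := by
    rw [← hBs]; exact im_mono ψ.symm (B_le_parabolic P _)
  have hM'le : M' ≤ P.parabolic {s i} := by
    have := im_mono ψ.symm h1
    rwa [hMdef, im_symm_im] at this
  have hM'p := overgroup_eq_parabolic M' hM'
  set J' := {t | t ∈ P.S ∧ t ∈ M'} with hJ'def
  have hJ'S : J' ⊆ P.S := fun t ht => ht.1
  have hJ'sub : J' ⊆ {s i} := by
    rw [← parabolic_le_iff hJ'S (Set.singleton_subset_iff.mpr hsi), ← hM'p]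
    exact hM'le
  have hJ'ne : J'.Nonempty := by
    by_contra hne
    rw [Set.not_nonempty_iff_eq_empty] at hne
    rw [hne, parabolic_empty] at hM'p
    have h2 : im ψ M' = P.B := by rw [hM'p, hB]
    have e : im ψ M' = P.parabolic {s j} := by
      rw [hM'def]
      have := im_im_symm ψ (P.parabolic {s j})
      exact this
    rw [e] at h2
    have : s j ∈ P.parabolic {s j} :=
      closure_le_parabolic P _ (Subgroup.subset_closure (Set.mem_singleton _))
    rw [h2] at this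
    exact S_not_mem_B P htS this
  have hJ'eq : J' = {s i} := by
    apply Set.Subset.antisymm hJ'sub
    obtain ⟨t', ht'⟩ := hJ'ne
    have := hJ'sub ht'
    rw [Set.mem_singleton_iff] at this
    rw [Set.singleton_subset_iff, ← this]
    exact ht'
  have hfin : M = P.parabolic {s j} := by
    have e1 : M' = P.parabolic {s i} := by rw [hM'p, hJ'eq]
    have e2 := congrArg (im ψ) e1
    rw [hM'def] at e2
    have e3 := im_im_symm ψ (P.parabolic {s j})
    rw [e3] at e2
    rw [hMdef, ← e2]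
  refine ⟨j, ?_⟩
  rw [← h.V_inf_parabolic i, im_inf, hV, ← hMdef, hfin, h.V_inf_parabolic j]


/-- the first reduction -/
theorem L1Hyp.main [Finite G] [Finite I] [Fact p.Prime] (h : L1Hyp P p U V s Xp Xm n₀ star) (θ : G ≃* G) :
    ∃ (g : G) (π : Equiv.Perm I), ∀ i,
      im (θ.trans (MulAut.conj g)) (Xp i) = Xp (π i) ∧ im (θ.trans (MulAut.conj g)) (Xm i) = Xm (π i) := by
  obtain ⟨Q, hQ⟩ := h.sylow
  -- step 1: move `θ U` back to `U`
  obtain ⟨g₁, hg₁⟩ := exists_cjg_eq_of_card Q (im θ U) (by rw [card_im, hQ])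
  rw [hQ] at hg₁
  set θ₁ := θ.trans (MulAut.conj g₁) with hθ₁
  have hU₁ : im θ₁ U = U := by rw [hθ₁, im_trans, im_conj, hg₁]
  -- step 2: the image of `V`
  have hcardV : Nat.card V = Nat.card U := by rw [← h.n0_U, card_cjg]
  obtain ⟨g₂, hg₂⟩ := exists_cjg_eq_of_card Q (im θ₁ V) (by rw [card_im, hcardV, hQ])
  rw [hQ] at hg₂
  have hW : im θ₁ V = cjg g₂⁻¹ U := by rw [← hg₂, cjg_inv_cjg]
  have hUV : U ⊓ V = ⊥ := by
    apply le_antisymm _ bot_le
    rw [← h.B_inf_V]
    exact inf_le_inf_right _ h.U_le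
  have hWU : cjg g₂⁻¹ U ⊓ U = ⊥ := by
    rw [← hW]
    conv_lhs => rw [← hU₁]
    rw [← im_inf, inf_comm, hUV, im_bot]
  obtain ⟨n, hn, hgn⟩ := bruhat_exists P g₂⁻¹
  rw [mem_dc] at hgn
  obtain ⟨b, hb, b', hb', e⟩ := hgn
  have e1 : cjg g₂⁻¹ U = cjg b (cjg n U) := by
    rw [e, cjg_mul, cjg_mul, h.U_norm b' hb']
  have hnU : cjg n U ⊓ U = ⊥ := by
    have h1 : cjg b⁻¹ (cjg g₂⁻¹ U ⊓ U) = cjg n U ⊓ U := by
      rw [cjg_inf, e1, cjg_inv_cjg, h.U_norm _ (P.B.inv_mem hb)]
    rw [← h1, hWU, cjg_bot]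
  have hnV := h.opp n hn hnU
  obtain ⟨u, hu, huV⟩ := h.V_conj b hb
  have hW2 : im θ₁ V = cjg u V := by rw [hW, e1, hnV, huV]
  set θ₂ := θ₁.trans (MulAut.conj u⁻¹) with hθ₂
  have hU₂ : im θ₂ U = U := by
    rw [hθ₂, im_trans, im_conj, hU₁, cjg_eq_self_of_mem (U.inv_mem hu)]
  have hV₂ : im θ₂ V = V := by
    rw [hθ₂, im_trans, im_conj, hW2, cjg_inv_cjg]
  have hθ₂' : θ₂ = θ.trans (MulAut.conj (u⁻¹ * g₁)) := by
    ext x
    simp only [hθ₂, hθ₁, MulEquiv.trans_apply, MulAut.conj_apply]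
    group
  -- step 3: the permutation of the negative root subgroups
  choose π₁ hπ₁ using h.perm_Xm θ₂ hU₂ hV₂
  -- step 4: the positive root subgroups
  set ψ := ((MulAut.conj n₀ : G ≃* G).trans θ₂).trans (MulAut.conj n₀⁻¹) with hψ
  have hψU : im ψ U = U := by
    rw [hψ, im_trans, im_trans, im_conj, im_conj, h.n0_U, hV₂, ← h.n0_U, cjg_inv_cjg]
  have hψV : im ψ V = V := by
    rw [hψ, im_trans, im_trans, im_conj, im_conj, h.n0_V, hU₂, ← h.n0_V, cjg_inv_cjg]
  choose π₂ hπ₂ using h.perm_Xm ψ hψU hψV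
  have hXp : ∀ i, im θ₂ (Xp (star i)) = Xp (star (π₂ i)) := by
    intro i
    have h1 := hπ₂ i
    rw [hψ, im_trans, im_trans, im_conj, im_conj, h.Xp_eq] at h1
    have h2 := congrArg (cjg n₀) h1
    rw [cjg_cjg_inv, h.Xp_eq] at h2
    exact h2
  choose sinv hsinv using h.star_surj
  have hXp' : ∀ j, im θ₂ (Xp j) = Xp (star (π₂ (sinv j))) := by
    intro j
    have := hXp (sinv j)
    rwa [hsinv] at this
  -- the two permutations agree
  have hagree : ∀ j, star (π₂ (sinv j)) = π₁ j := by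
    intro j
    by_contra hne
    obtain ⟨a, ha, c, hc, hac⟩ := h.ncomm j
    have ha' : θ₂ a ∈ Xp (star (π₂ (sinv j))) := by rw [← hXp' j]; exact apply_mem_im ha
    have hc' : θ₂ c ∈ Xm (π₁ j) := by rw [← hπ₁ j]; exact apply_mem_im hc
    have := h.comm _ _ hne _ ha' _ hc'
    rw [← map_mul, ← map_mul] at this
    exact hac (θ₂.injective this)
  have hXm_inj : ∀ i j, Xm i = Xm j → i = j := by
    intro i j hij
    by_contra hne
    obtain ⟨a, ha, c, hc, hac⟩ := h.ncomm i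
    rw [hij] at hc
    exact hac (h.comm i j hne a ha c hc)
  have hπ₁inj : Function.Injective π₁ := by
    intro i j hij
    apply hXm_inj
    have h1 := hπ₁ i
    have h2 := hπ₁ j
    rw [hij, ← h2] at h1
    have := congrArg (im θ₂.symm) h1
    rwa [im_symm_im, im_symm_im] at this
  refine ⟨u⁻¹ * g₁, Equiv.ofBijective π₁ (Finite.injective_iff_bijective.mp hπ₁inj), ?_⟩
  intro i
  rw [← hθ₂']
  refine ⟨?_, hπ₁ i⟩
  rw [hXp' i, hagree i]
  rfl

end L1

end Cfsg.Agent.Helper18.Aut
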