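import Cfsg.Agent.Helper18.BNMain
import Cfsg.Agent.Helper18.LongWord
import Cfsg.Agent.Helper18.Aut.Level1
import Cfsg.Agent.S1025
import Cfsg.Agent.S1037
import Cfsg.Agent.Helper18.Aut.ChevData

/-!
Helper18: facts about the Chevalley groups (inside `GL`) needed for the determination of their automorphisms:
the action of `N` on the root subgroups, opposite unipotent subgroups, the longest element, minimal parabolics.
-/

set_option autoImplicit false

namespace Cfsg.Agent.Helper18.Aut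

open Cfsg Cfsg.Lie Cfsg.Agent.Helper18

section
variable {F : Type*} [Field F]
variable (D : ChevalleyDatum) (hD : D ∈ [chevG2, chevB2, chevD4, chevF4, chevE6, chevE7, chevE8])
include hD

theorem commHyp : CommHyp D F :=
  fun r s hr hs h1 h2 t u => Cfsg.Agent.S1025.result D hD r s hr hs h1 h2 t u

theorem xGL_mem_rootSubgroup (r : ℕ) (t : F) : xGL D F r t ∈ D.rootSubgroup F r :=
  Subgroup.subset_closure ⟨t, xGL_val D _ (triOK_of_mem D hD) r t⟩

theorem xGL_eq_one_iff (r : ℕ) (hr : r < D.nroots) (t : F) : xGL D F r t = 1 ↔ t = 0 := by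
  constructor
  · intro h
    have h1 := congrArg (fun g : GL D.Idx F => (g : Matrix D.Idx D.Idx F)) h
    simp only [xGL_val D _ (triOK_of_mem D hD), Units.val_one] at h1
    exact (Cfsg.Agent.S1024.result D hD r hr t).mp h1
  · rintro rfl
    exact xGL_zero' D hD r

theorem xGL_injective (r : ℕ) (hr : r < D.nroots) : Function.Injective (xGL D F r) := by
  intro a b h
  have h1 := congrArg (fun g : GL D.Idx F => (g : Matrix D.Idx D.Idx F)) h
  simp only [xGL_val D _ (triOK_of_mem D hD)] at h1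
  exact x_injective D hD r hr a b h1

theorem xGL_add' (r : ℕ) (hr : r < D.nroots) (a b : F) : xGL D F r (a + b) = xGL D F r a * xGL D F r b := by
  apply Units.ext
  rw [Units.val_mul, xGL_val D _ (triOK_of_mem D hD), xGL_val D _ (triOK_of_mem D hD),
    xGL_val D _ (triOK_of_mem D hD), Cfsg.Agent.S1023.result D hD r hr a b]

/-- a root is positive or negative -/
theorem pos_or_neg (r : ℕ) (hr : r < D.nroots) : D.IsPosRoot r ∨ D.IsNegRoot r := by
  have hp := posOK_of_mem D hD
  by_cases h : hlfOf D ≤ r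
  · left; exact (isPosRoot_iff D _ hp r).mpr ⟨h, hr⟩
  · right; exact (isNegRoot_iff D _ hp r).mpr ⟨by omega, hr⟩

theorem not_pos_and_neg (r : ℕ) (h1 : D.IsPosRoot r) (h2 : D.IsNegRoot r) : False := by
  have hp := posOK_of_mem D hD
  have a := (isPosRoot_iff D _ hp r).mp h1
  have b := (isNegRoot_iff D _ hp r).mp h2
  omega

theorem neg_of_pos (r : ℕ) (h1 : D.IsPosRoot r) : D.IsNegRoot (D.neg r) := by
  have hp := posOK_of_mem D hD
  have a := (isPosRoot_iff D _ hp r).mp h1
  have t := triOK_spec D _ (triOK_of_mem D hD) r a.2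
  exact (isNegRoot_iff D _ hp _).mpr ⟨t.2.2.2 a.1, t.1⟩

theorem pos_of_neg (r : ℕ) (h1 : D.IsNegRoot r) : D.IsPosRoot (D.neg r) := by
  have hp := posOK_of_mem D hD
  have a := (isNegRoot_iff D _ hp r).mp h1
  have t := triOK_spec D _ (triOK_of_mem D hD) r a.2
  exact (isPosRoot_iff D _ hp _).mpr ⟨t.2.2.1 a.1, t.1⟩

theorem neg_neg' (r : ℕ) (hr : r < D.nroots) : D.neg (D.neg r) = r :=
  (triOK_spec D _ (triOK_of_mem D hD) r hr).2.1

theorem neg_lt (r : ℕ) (hr : r < D.nroots) : D.neg r < D.nroots :=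
  (triOK_spec D _ (triOK_of_mem D hD) r hr).1

omit hD in
theorem rootSubgroup_le_pos (r : ℕ) (hr : D.IsPosRoot r) : D.rootSubgroup F r ≤ D.posUnipotent F := by
  unfold ChevalleyDatum.rootSubgroup ChevalleyDatum.posUnipotent
  apply Subgroup.closure_mono
  rintro g ⟨t, hg⟩
  exact ⟨r, t, hr, hg⟩

omit hD in
theorem rootSubgroup_le_neg (r : ℕ) (hr : D.IsNegRoot r) : D.rootSubgroup F r ≤ D.negUnipotent F := by
  unfold ChevalleyDatum.rootSubgroup ChevalleyDatum.negUnipotent
  apply Subgroup.closure_mono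
  rintro g ⟨t, hg⟩
  exact ⟨r, t, hr, hg⟩

theorem pos_inf_neg' : D.posUnipotent F ⊓ D.negUnipotent F = ⊥ := by
  apply le_antisymm _ bot_le
  rw [← (Cfsg.Agent.S1037.result (F := F) D hD).1]
  exact inf_le_inf_right _ (posUnipotent_le_borel D hD)

/-- a root subgroup in `U ∩ V` does not exist -/
theorem rootSubgroup_not_le_both (r : ℕ) (hr : r < D.nroots) (h1 : D.rootSubgroup F r ≤ D.posUnipotent F)
    (h2 : D.rootSubgroup F r ≤ D.negUnipotent F) : False := by
  have h3 : xGL D F r 1 ∈ D.posUnipotent F ⊓ D.negUnipotent F :=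
    Subgroup.mem_inf.mpr ⟨h1 (xGL_mem_rootSubgroup D hD r 1), h2 (xGL_mem_rootSubgroup D hD r 1)⟩
  rw [pos_inf_neg' D hD, Subgroup.mem_bot, xGL_eq_one_iff D hD r hr] at h3
  exact one_ne_zero h3

/-- `n_w X_s n_w⁻¹ = X_{w s}` -/
theorem cjg_word_rootSubgroup (w : List ℕ) (hw : ∀ i ∈ w, i < D.rank) (s : ℕ) (hs : s < D.nroots) :
    cjg (nWordsGL D F w) (D.rootSubgroup F s) = D.rootSubgroup F (rho D w s) := by
  have htri := triOK_of_mem D hD
  obtain ⟨hlt, η, hη, hc⟩ := nWordsGL_conj_xGL (F := F) D hD (nConjHyp D hD)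
    (fun i s hi hs => reflectRoot_lt D hD i s hi hs) w hw s hs
  have hηη : (η : F) * (η : F) = 1 := by
    rcases hη with rfl | rfl <;> simp
  ext g
  rw [mem_cjg]
  constructor
  · intro hg
    obtain ⟨t, ht⟩ := mem_rootSubgroup D hD s _ hg
    have e : g = nWordsGL D F w * xGL D F s t * (nWordsGL D F w)⁻¹ := by
      rw [← ht]; group
    rw [e, hc t, mul_inv_cancel_right]
    exact xGL_mem_rootSubgroup D hD _ _
  · intro hg
    obtain ⟨t, rfl⟩ := mem_rootSubgroup D hD _ _ hg
    have e : (nWordsGL D F w)⁻¹ * xGL D F (rho D w s) t * nWordsGL D F w = xGL D F s ((η : F) * t) := by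
      have := hc ((η : F) * t)
      rw [← mul_assoc, hηη, one_mul] at this
      rw [mul_assoc, ← this, inv_mul_cancel_left]
    rw [e]
    exact xGL_mem_rootSubgroup D hD _ _

/-- `h X_s h⁻¹ = X_s` -/
theorem cjg_diag_rootSubgroup (h : GL D.Idx F) (hh : h ∈ D.diagonalSubgroup F) (s : ℕ) (hs : s < D.nroots) :
    cjg h (D.rootSubgroup F s) = D.rootSubgroup F s := by
  obtain ⟨χ, hχ, -, hc⟩ := diagonalSubgroup_char D hD h hh
  ext g
  rw [mem_cjg]
  constructor
  · intro hg
    obtain ⟨t, ht⟩ := mem_rootSubgroup D hD s _ hg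
    have e : g = h * xGL D F s t * h⁻¹ := by rw [← ht]; group
    rw [e, hc s hs t, mul_inv_cancel_right]
    exact xGL_mem_rootSubgroup D hD _ _
  · intro hg
    obtain ⟨t, rfl⟩ := mem_rootSubgroup D hD _ _ hg
    have e : h⁻¹ * xGL D F s t * h = xGL D F s ((χ s)⁻¹ * t) := by
      have := hc s hs ((χ s)⁻¹ * t)
      rw [mul_inv_cancel_left₀ (hχ s)] at this
      rw [mul_assoc, ← this, inv_mul_cancel_left]
    rw [e]
    exact xGL_mem_rootSubgroup D hD _ _

/-- every element of `N` permutes the root subgroups as a word in the fundamental reflections does -/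
theorem cjg_monomial_rootSubgroup (n : GL D.Idx F) (hn : n ∈ D.monomialSubgroup F) :
    ∃ w : List ℕ, (∀ i ∈ w, i < D.rank) ∧
      (∀ s < D.nroots, cjg n (D.rootSubgroup F s) = D.rootSubgroup F (rho D w s)) ∧
      (∀ s < D.nroots, cjg n⁻¹ (D.rootSubgroup F s) = D.rootSubgroup F (rho D w.reverse s)) := by
  obtain ⟨w, hw, h, hh, rfl⟩ := mem_monomial_decomp D hD n hn
  have h1 : ∀ s < D.nroots, cjg (h * nWordsGL D F w) (D.rootSubgroup F s) = D.rootSubgroup F (rho D w s) := by
    intro s hs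
    rw [cjg_mul, cjg_word_rootSubgroup D hD w hw s hs,
      cjg_diag_rootSubgroup D hD h hh _ (rho_lt D hD w hw s hs)]
  refine ⟨w, hw, h1, ?_⟩
  intro s hs
  have hwr : ∀ j ∈ w.reverse, j < D.rank := fun j hj => hw j (List.mem_reverse.mp hj)
  have h2 := h1 _ (rho_lt D hD w.reverse hwr s hs)
  rw [rho_reverse_cancel D hD w hw s hs] at h2
  rw [← h2, cjg_inv_cjg]

/-- conjugates of subgroups generated by root subgroups -/
theorem cjg_closure_le (n : GL D.Idx F) (R R' : ℕ → Prop)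
    (h : ∀ r, R r → ∃ r', R' r' ∧ cjg n (D.rootSubgroup F r) = D.rootSubgroup F r') :
    cjg n (Subgroup.closure {g : GL D.Idx F | ∃ (r : ℕ) (t : F), R r ∧ (g : Matrix D.Idx D.Idx F) = D.x F r t}) ≤
      Subgroup.closure {g : GL D.Idx F | ∃ (r : ℕ) (t : F), R' r ∧ (g : Matrix D.Idx D.Idx F) = D.x F r t} := by
  unfold cjg
  rw [Subgroup.map_le_iff_le_comap, Subgroup.closure_le]
  rintro g ⟨r, t, hr, hg⟩
  obtain ⟨r', hr', e⟩ := h r hr
  have hgx : g ∈ D.rootSubgroup F r := Subgroup.subset_closure ⟨t, hg⟩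
  have h1 : n * g * n⁻¹ ∈ cjg n (D.rootSubgroup F r) := conj_mem_cjg hgx
  rw [e] at h1
  obtain ⟨t', ht'⟩ := mem_rootSubgroup D hD r' _ h1
  rw [SetLike.mem_coe, Subgroup.mem_comap]
  show n * g * n⁻¹ ∈ _
  rw [ht']
  exact Subgroup.subset_closure ⟨r', t', hr', xGL_val D _ (triOK_of_mem D hD) _ _⟩

/-- the opposite lemma: if `n U n⁻¹ ∩ U = 1` then `n U n⁻¹ = V` -/
theorem cjg_pos_eq_neg (n : GL D.Idx F) (hn : n ∈ D.monomialSubgroup F)
    (hdis : cjg n (D.posUnipotent F) ⊓ D.posUnipotent F = ⊥) : cjg n (D.posUnipotent F) = D.negUnipotent F := by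
  obtain ⟨w, hw, h1, h2⟩ := cjg_monomial_rootSubgroup D hD n hn
  have hwr : ∀ j ∈ w.reverse, j < D.rank := fun j hj => hw j (List.mem_reverse.mp hj)
  -- positive roots go to negative roots
  have hpn : ∀ r, D.IsPosRoot r → D.IsNegRoot (rho D w r) := by
    intro r hr
    have hlt := rho_lt D hD w hw r hr.1
    rcases pos_or_neg D hD _ hlt with hp | hq
    · exfalso
      have a : D.rootSubgroup F (rho D w r) ≤ cjg n (D.posUnipotent F) := by
        rw [← h1 r hr.1]
        exact cjg_mono n (rootSubgroup_le_pos D r hr)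
      have b : D.rootSubgroup F (rho D w r) ≤ D.posUnipotent F := rootSubgroup_le_pos D _ hp
      have c : xGL D F (rho D w r) 1 ∈ cjg n (D.posUnipotent F) ⊓ D.posUnipotent F :=
        Subgroup.mem_inf.mpr ⟨a (xGL_mem_rootSubgroup D hD _ 1), b (xGL_mem_rootSubgroup D hD _ 1)⟩
      rw [hdis, Subgroup.mem_bot, xGL_eq_one_iff D hD _ hlt] at c
      exact one_ne_zero c
    · exact hq
  apply le_antisymm
  · exact cjg_closure_le D hD n _ _ (fun r hr => ⟨rho D w r, hpn r hr, h1 r hr.1⟩)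
  · -- `V ≤ n U n⁻¹` from `n⁻¹ V n ≤ U`
    have h3 : cjg n⁻¹ (D.negUnipotent F) ≤ D.posUnipotent F := by
      apply cjg_closure_le D hD n⁻¹ _ _
      intro s hs
      refine ⟨rho D w.reverse s, ?_, h2 s hs.1⟩
      have hlt := rho_lt D hD w.reverse hwr s hs.1
      rcases pos_or_neg D hD _ hlt with hp | hq
      · exact hp
      · exfalso
        have hp' := pos_of_neg D hD _ hq
        have hq' := hpn _ hp'
        rw [rho_neg D hD w hw _ hlt, rho_reverse_cancel D hD w hw s hs.1] at hq'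
        exact not_pos_and_neg D hD _ (pos_of_neg D hD s hs) hq'
    have := cjg_mono n h3
    rwa [cjg_cjg_inv] at this

/-- `B` normalises `U` -/
theorem cjg_borel_pos (b : GL D.Idx F) (hb : b ∈ D.borelSubgroup F) : cjg b (D.posUnipotent F) = D.posUnipotent F := by
  have hle : D.borelSubgroup F ≤ Subgroup.normalizer (D.posUnipotent F : Set (GL D.Idx F)) := by
    unfold ChevalleyDatum.borelSubgroup
    exact sup_le Subgroup.le_normalizer (diagonalSubgroup_le_normalizer_posUnipotent D hD)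
  have hn := hle hb
  ext x
  rw [mem_cjg]
  have h1 := (Subgroup.mem_normalizer_iff.mp (inv_mem hn)) x
  rw [inv_inv] at h1
  exact h1.symm

/-- `H` normalises `V` -/
theorem cjg_diag_neg (h : GL D.Idx F) (hh : h ∈ D.diagonalSubgroup F) : cjg h (D.negUnipotent F) = D.negUnipotent F := by
  have hn := diagonalSubgroup_le_normalizer_negUnipotent D hD hh
  ext x
  rw [mem_cjg]
  have h1 := (Subgroup.mem_normalizer_iff.mp (inv_mem hn)) x
  rw [inv_inv] at h1
  exact h1.symm

/-- `B = U H` elementwise -/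
theorem mem_borel_decomp (b : GL D.Idx F) (hb : b ∈ D.borelSubgroup F) :
    ∃ u ∈ D.posUnipotent F, ∃ h ∈ D.diagonalSubgroup F, b = u * h := by
  unfold ChevalleyDatum.borelSubgroup at hb
  rw [← SetLike.mem_coe, Subgroup.coe_mul_of_right_le_normalizer_left _ _
    (diagonalSubgroup_le_normalizer_posUnipotent D hD)] at hb
  obtain ⟨u, hu, h, hh, rfl⟩ := hb
  exact ⟨u, hu, h, hh, rfl⟩

/-- conjugates of `V` by elements of `B` are conjugates by elements of `U` -/
theorem cjg_borel_neg (b : GL D.Idx F) (hb : b ∈ D.borelSubgroup F) :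
    ∃ u ∈ D.posUnipotent F, cjg b (D.negUnipotent F) = cjg u (D.negUnipotent F) := by
  obtain ⟨u, hu, h, hh, rfl⟩ := mem_borel_decomp D hD b hb
  exact ⟨u, hu, by rw [cjg_mul, cjg_diag_neg D hD h hh]⟩

/-- the rank one identity `n_p x_p(t) = h_p(-t)⁻¹ x_p(-t) x_{-p}(t⁻¹)` for `t ≠ 0` -/
theorem nGL_mul_xGL (r : ℕ) (hr : r < D.nroots) (t : F) (ht : t ≠ 0) :
    wordGL D F (D.nWord r (1 : F)) * xGL D F r t =
      (wordGL D F (D.hWord r (-t)))⁻¹ * xGL D F r (-t) * xGL D F (D.neg r) t⁻¹ := by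
  have h1 := xGL_neg_eq D hD r hr t⁻¹ (inv_ne_zero ht)
  rw [inv_inv] at h1
  rw [h1, ← xGL_inv' D hD r t]
  group

/-- `n_p B ⊆ B n_p ∪ B X_{-p}` -/
theorem n_mul_borel (i : ℕ) (hi : i < D.rank) (b' : GL D.Idx F) (hb' : b' ∈ D.borelSubgroup F) :
    (∃ b ∈ D.borelSubgroup F,
        wordGL D F (D.nWord (D.simple i) (1 : F)) * b' = b * wordGL D F (D.nWord (D.simple i) (1 : F))) ∨
    (∃ b ∈ D.borelSubgroup F, ∃ t : F,
        wordGL D F (D.nWord (D.simple i) (1 : F)) * b' = b * xGL D F (D.neg (D.simple i)) t) := by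
  have hpi := simple_lt D (simpleOK_of_mem D hD) i hi
  have hppos := simple_pos D hD i hi
  set s := wordGL D F (D.nWord (D.simple i) (1 : F)) with hs
  obtain ⟨u, hu, h, hh, rfl⟩ := mem_borel_decomp D hD b' hb'
  obtain ⟨u', hu', t, rfl⟩ := mem_posUnipotent_decomp D hD (commHyp D hD) i hi u hu
  have hb0 : s * u' * s⁻¹ ∈ D.borelSubgroup F := posUnipotent_le_borel D hD (nGL_conj_Up D hD i hi u' hu')
  have hsh : s * h * s⁻¹ ∈ D.borelSubgroup F := diagonal_le_borel D hD (nGL_conj_diagonal D hD _ hpi h hh)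
  by_cases ht : t = 0
  · left
    subst ht
    refine ⟨s * u' * s⁻¹ * (s * h * s⁻¹), mul_mem hb0 hsh, ?_⟩
    rw [xGL_zero' D hD]
    group
  · right
    obtain ⟨χ, hχ, -, hc⟩ := diagonalSubgroup_char D hD h hh
    have hnl := neg_lt D hD _ hpi
    have e1 := nGL_mul_xGL D hD _ hpi t ht
    rw [← hs] at e1
    have e2 := hc _ hnl ((χ (D.neg (D.simple i)))⁻¹ * t⁻¹)
    rw [mul_inv_cancel_left₀ (hχ _)] at e2
    refine ⟨s * u' * s⁻¹ * ((wordGL D F (D.hWord (D.simple i) (-t)))⁻¹ * xGL D F (D.simple i) (-t)) * h, ?_,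
      (χ (D.neg (D.simple i)))⁻¹ * t⁻¹, ?_⟩
    · apply mul_mem (mul_mem hb0 (mul_mem ?_ ?_)) (diagonal_le_borel D hD hh)
      · exact inv_mem (diagonal_le_borel D hD (hWordGL_mem_diagonalSubgroup D hD _ hpi _ (neg_ne_zero.mpr ht)))
      · exact posUnipotent_le_borel D hD (xGL_mem_posUnipotent D hD _ ⟨hppos, hpi⟩ _)
    · calc s * (u' * xGL D F (D.simple i) t * h)
          = s * u' * s⁻¹ * (s * xGL D F (D.simple i) t) * h := by group
        _ = s * u' * s⁻¹ * ((wordGL D F (D.hWord (D.simple i) (-t)))⁻¹ * xGL D F (D.simple i) (-t)) *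
              (xGL D F (D.neg (D.simple i)) t⁻¹ * h) := by rw [e1]; group
        _ = _ := by rw [← e2]; group

/-- `x_{-p}(c) ∈ B ∪ B n_p B` -/
theorem xGL_neg_simple_mem (i : ℕ) (hi : i < D.rank) (c : F) :
    c = 0 ∨ ∃ b₁ ∈ D.borelSubgroup F, ∃ b₂ ∈ D.borelSubgroup F,
      xGL D F (D.neg (D.simple i)) c = b₁ * wordGL D F (D.nWord (D.simple i) (1 : F)) * b₂ := by
  have hpi := simple_lt D (simpleOK_of_mem D hD) i hi
  have hppos := simple_pos D hD i hi
  by_cases hc : c = 0
  · left; exact hc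
  · right
    refine ⟨xGL D F (D.simple i) c⁻¹ * wordGL D F (D.hWord (D.simple i) (-c⁻¹)), ?_, xGL D F (D.simple i) c⁻¹, ?_,
      xGL_neg_eq D hD _ hpi c hc⟩
    · apply mul_mem
      · exact posUnipotent_le_borel D hD (xGL_mem_posUnipotent D hD _ ⟨hppos, hpi⟩ _)
      · exact diagonal_le_borel D hD (hWordGL_mem_diagonalSubgroup D hD _ hpi _
          (neg_ne_zero.mpr (inv_ne_zero hc)))
    · exact posUnipotent_le_borel D hD (xGL_mem_posUnipotent D hD _ ⟨hppos, hpi⟩ _)

/-- `n_p` does not normalise `U` -/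
theorem cjg_n_pos_ne (i : ℕ) (hi : i < D.rank) :
    cjg (wordGL D F (D.nWord (D.simple i) (1 : F))) (D.posUnipotent F) ≠ D.posUnipotent F := by
  intro h
  have hpi := simple_lt D (simpleOK_of_mem D hD) i hi
  have hppos := simple_pos D hD i hi
  have hpos : D.IsPosRoot (D.simple i) := (isPosRoot_iff D _ (posOK_of_mem D hD) _).mpr ⟨hppos, hpi⟩
  obtain ⟨η, hη, hc⟩ := nGL_conj_xGL D hD (nConjHyp (F := F) D hD) i _ hi hpi
  rw [reflectRoot_simple D hD i] at hc
  set s := wordGL D F (D.nWord (D.simple i) (1 : F)) with hs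
  have h1 : s * xGL D F (D.simple i) 1 * s⁻¹ ∈ cjg s (D.posUnipotent F) :=
    conj_mem_cjg (xGL_mem_posUnipotent D hD _ ⟨hppos, hpi⟩ 1)
  rw [h, hc 1, mul_inv_cancel_right] at h1
  have h2 : xGL D F (D.neg (D.simple i)) ((η : F) * 1) ∈ D.negUnipotent F :=
    rootSubgroup_le_neg D _ (neg_of_pos D hD _ hpos) (xGL_mem_rootSubgroup D hD _ _)
  have h3 : xGL D F (D.neg (D.simple i)) ((η : F) * 1) ∈ D.posUnipotent F ⊓ D.negUnipotent F :=
    Subgroup.mem_inf.mpr ⟨h1, h2⟩
  rw [pos_inf_neg' D hD, Subgroup.mem_bot, xGL_eq_one_iff D hD _ (neg_lt D hD _ hpi), mul_one] at h3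
  rcases hη with rfl | rfl <;> simp at h3

/-- the facts about a pair of distinct fundamental roots -/
theorem fund_spec (i j : ℕ) (hi : i < D.rank) (hj : j < D.rank) (hij : i ≠ j) :
    D.commTerms (D.simple i) (D.neg (D.simple j)) = [] ∧
    D.neg (D.simple j) ≠ D.simple i ∧ D.neg (D.simple j) ≠ D.neg (D.simple i) ∧
    D.simple j ≠ D.simple i ∧ D.simple j ≠ D.neg (D.simple i) ∧
    (D.bonds i j = 0 → D.commTerms (D.simple i) (D.simple j) = []) ∧
    (D.bonds i j ≠ 0 → D.reflectRoot j (D.simple i) ≠ D.simple i) ∧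
    D.cartan i (D.simple j) ≤ 0 ∧
    (D.bonds i j = 0 ∨ D.cartan i (D.simple j) = -1 ∨ D.cartan j (D.simple i) = -1) := by
  have h := fundOK_of_mem D hD
  unfold fundOK at h
  rw [List.all_eq_true] at h
  have h1 := h i (List.mem_range.mpr hi)
  rw [Bool.and_eq_true, List.all_eq_true] at h1
  have h2 := h1.2 j (List.mem_range.mpr hj)
  have hne : (i == j) = false := by simpa using hij
  rw [hne, Bool.false_or] at h2
  simp only [Bool.and_eq_true, Bool.or_eq_true, decide_eq_true_eq] at h2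
  obtain ⟨⟨⟨⟨⟨⟨⟨a1, a2⟩, a3⟩, a4⟩, a5⟩, a6⟩, a7⟩, a8⟩ := h2
  refine ⟨a1, a2, a3, a4, a5, ?_, ?_, a7, ?_⟩
  · intro hb
    rw [if_pos hb, decide_eq_true_eq] at a6
    exact a6
  · intro hb
    rw [if_neg hb, decide_eq_true_eq] at a6
    exact a6
  · rcases a8 with (a | a) | a
    · exact Or.inl a
    · exact Or.inr (Or.inl a)
    · exact Or.inr (Or.inr a)

theorem cartan_simple_self (i : ℕ) (hi : i < D.rank) : D.cartan i (D.simple i) = 2 := by
  have h := fundOK_of_mem D hD
  unfold fundOK at h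
  rw [List.all_eq_true] at h
  have h1 := h i (List.mem_range.mpr hi)
  rw [Bool.and_eq_true, decide_eq_true_eq] at h1
  exact h1.1

/-- root elements whose commutator formula is empty commute -/
theorem xGL_comm_of_commTerms (r s : ℕ) (hr : r < D.nroots) (hs : s < D.nroots) (h1 : s ≠ r) (h2 : s ≠ D.neg r)
    (hc : D.commTerms r s = []) (t u : F) : xGL D F r t * xGL D F s u = xGL D F s u * xGL D F r t := by
  apply Units.ext
  rw [Units.val_mul, Units.val_mul, xGL_val D _ (triOK_of_mem D hD), xGL_val D _ (triOK_of_mem D hD)]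
  have := commHyp (F := F) D hD r s hr hs h1 h2 t u
  unfold ChevalleyDatum.commWord at this
  rw [hc] at this
  simp only [List.map_nil, ChevalleyDatum.wordMat, List.prod_nil, mul_one] at this
  exact this.symm

/-- `X_{p_i}` and `X_{-p_j}` commute for `i ≠ j` -/
theorem xGL_comm_pm (i j : ℕ) (hi : i < D.rank) (hj : j < D.rank) (hij : i ≠ j) (t u : F) :
    xGL D F (D.simple i) t * xGL D F (D.neg (D.simple j)) u =
      xGL D F (D.neg (D.simple j)) u * xGL D F (D.simple i) t := by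
  obtain ⟨a1, a2, a3, -⟩ := fund_spec D hD i j hi hj hij
  have hsim := simpleOK_of_mem D hD
  exact xGL_comm_of_commTerms D hD _ _ (simple_lt D hsim i hi) (neg_lt D hD _ (simple_lt D hsim j hj)) a2 a3 a1 t u

/-- `X_{p_i}` and `X_{p_j}` commute elementwise iff the nodes `i`, `j` are not joined -/
theorem xGL_comm_pp_iff (i j : ℕ) (hi : i < D.rank) (hj : j < D.rank) (hij : i ≠ j) :
    (∀ t u : F, xGL D F (D.simple i) t * xGL D F (D.simple j) u =
      xGL D F (D.simple j) u * xGL D F (D.simple i) t) ↔ D.bonds i j = 0 := by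
  obtain ⟨-, -, -, a4, a5, a6, a7, -⟩ := fund_spec D hD i j hi hj hij
  have hsim := simpleOK_of_mem D hD
  have hpi := simple_lt D hsim i hi
  have hpj := simple_lt D hsim j hj
  constructor
  · intro hcomm
    by_contra hb
    have hne := a7 hb
    -- `n_j` commutes with `x_i(1)`
    set n := wordGL D F (D.nWord (D.simple j) (1 : F)) with hn
    have h1 : n * xGL D F (D.simple i) 1 = xGL D F (D.simple i) 1 * n := by
      rw [hn, wordGL_nWord']
      have c1 := hcomm 1 1
      have c2 := xGL_comm_pm D hD i j hi hj hij (1 : F) (-(1 : F)⁻¹)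
      calc xGL D F (D.simple j) 1 * xGL D F (D.neg (D.simple j)) (-(1 : F)⁻¹) * xGL D F (D.simple j) 1 *
            xGL D F (D.simple i) 1
          = xGL D F (D.simple j) 1 * xGL D F (D.neg (D.simple j)) (-(1 : F)⁻¹) *
              (xGL D F (D.simple i) 1 * xGL D F (D.simple j) 1) := by rw [c1]; group
        _ = xGL D F (D.simple j) 1 * (xGL D F (D.simple i) 1 * xGL D F (D.neg (D.simple j)) (-(1 : F)⁻¹)) *
              xGL D F (D.simple j) 1 := by rw [c2]; group
        _ = xGL D F (D.simple i) 1 * xGL D F (D.simple j) 1 * xGL D F (D.neg (D.simple j)) (-(1 : F)⁻¹) *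
              xGL D F (D.simple j) 1 := by rw [c1]; group
        _ = _ := by group
    obtain ⟨η, hη, hc⟩ := nGL_conj_xGL D hD (nConjHyp (F := F) D hD) j _ hj hpi
    rw [← hn] at hc
    have h2 := hc 1
    rw [h1, mul_one] at h2
    have h3 : xGL D F (D.simple i) 1 = xGL D F (D.reflectRoot j (D.simple i)) (η : F) := mul_right_cancel h2
    -- conjugate by `n_i`
    set s := D.reflectRoot j (D.simple i) with hs
    have hspos := reflectRoot_pos D hD j (D.simple i) hj ⟨simple_pos D hD i hi, hpi⟩ a4.symm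
    obtain ⟨η1, hη1, hc1⟩ := nGL_conj_xGL D hD (nConjHyp (F := F) D hD) i _ hi hpi
    obtain ⟨η2, hη2, hc2⟩ := nGL_conj_xGL D hD (nConjHyp (F := F) D hD) i s hi hspos.2.1
    rw [reflectRoot_simple D hD i] at hc1
    have h4 := hc1 1
    rw [h3, hc2 (η : F)] at h4
    have h5 : xGL D F (D.reflectRoot i s) ((η2 : F) * (η : F)) = xGL D F (D.neg (D.simple i)) ((η1 : F) * 1) :=
      mul_right_cancel h4
    have hspos2 := reflectRoot_pos D hD i s hi ⟨hspos.1, hspos.2.1⟩ hne
    have hU : xGL D F (D.reflectRoot i s) ((η2 : F) * (η : F)) ∈ D.posUnipotent F :=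
      xGL_mem_posUnipotent D hD _ ⟨hspos2.1, hspos2.2.1⟩ _
    have hpos : D.IsPosRoot (D.simple i) :=
      (isPosRoot_iff D _ (posOK_of_mem D hD) _).mpr ⟨simple_pos D hD i hi, hpi⟩
    have hV : xGL D F (D.neg (D.simple i)) ((η1 : F) * 1) ∈ D.negUnipotent F :=
      rootSubgroup_le_neg D _ (neg_of_pos D hD _ hpos) (xGL_mem_rootSubgroup D hD _ _)
    rw [h5] at hU
    have h6 : xGL D F (D.neg (D.simple i)) ((η1 : F) * 1) ∈ D.posUnipotent F ⊓ D.negUnipotent F :=
      Subgroup.mem_inf.mpr ⟨hU, hV⟩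
    rw [pos_inf_neg' D hD, Subgroup.mem_bot, xGL_eq_one_iff D hD _ (neg_lt D hD _ hpi), mul_one] at h6
    rcases hη1 with rfl | rfl <;> simp at h6
  · intro hb t u
    exact xGL_comm_of_commTerms D hD _ _ hpi hpj a4 a5 (a6 hb) t u

end

/-- the longest element: `n₀ U n₀⁻¹ = V` and `n₀ X_{-p_i} n₀⁻¹ = X_{p_{star i}}` -/
theorem exists_longest_star {F : Type*} [Field F] (D : ChevalleyDatum)
    (hD : D ∈ [chevG2, chevB2, chevD4, chevF4, chevE6, chevE7, chevE8]) :
    ∃ (n₀ : GL D.Idx F) (star : ℕ → ℕ), n₀ ∈ D.monomialSubgroup F ∧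
      cjg n₀ (D.posUnipotent F) = D.negUnipotent F ∧
      (∀ i < D.rank, star i < D.rank ∧
        cjg n₀ (D.rootSubgroup F (D.neg (D.simple i))) = D.rootSubgroup F (D.simple (star i))) ∧
      ∀ j < D.rank, ∃ i < D.rank, star i = j := by
  have key : ∀ (tabs w st : List ℕ), tabsOK D tabs = true → w0OK D tabs w (hlfOf D) = true →
      D.nroots = hlfOf D + hlfOf D → starOK D tabs w st = true →
      ∃ (n₀ : GL D.Idx F) (star : ℕ → ℕ), n₀ ∈ D.monomialSubgroup F ∧
        cjg n₀ (D.posUnipotent F) = D.negUnipotent F ∧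
        (∀ i < D.rank, star i < D.rank ∧
          cjg n₀ (D.rootSubgroup F (D.neg (D.simple i))) = D.rootSubgroup F (D.simple (star i))) ∧
        ∀ j < D.rank, ∃ i < D.rank, star i = j := by
    intro tabs w st ht hw0 hn hst
    have hpos := posOK_of_mem D hD
    have hsim := simpleOK_of_mem D hD
    have hw0' := hw0
    unfold w0OK at hw0'
    simp only [Bool.and_eq_true, List.all_eq_true, decide_eq_true_eq, beq_iff_eq] at hw0'
    obtain ⟨⟨hw, hfwd⟩, -⟩ := hw0'
    have hnmem := nWordsGL_mem (F := F) D hD w hw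
    refine ⟨nWordsGL D F w, fun i => st.getD i 0, hnmem, ?_, ?_, ?_⟩
    · -- positive roots go to negative roots, so the conjugate meets `U` trivially
      apply cjg_pos_eq_neg D hD _ hnmem
      have hle : cjg (nWordsGL D F w) (D.posUnipotent F) ≤ D.negUnipotent F := by
        apply cjg_closure_le D hD (nWordsGL D F w) _ _
        intro r hr
        have hr' := (isPosRoot_iff D _ hpos r).mp hr
        refine ⟨rho D w r, ?_, cjg_word_rootSubgroup D hD w hw r hr'.2⟩
        rw [isNegRoot_iff D _ hpos]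
        have h1 := hfwd r (List.mem_range'_1.mpr ⟨hr'.1, by omega⟩)
        rw [(rhoFast_eq D tabs ht w hw r hr'.2).1] at h1
        exact ⟨h1, rho_lt D hD w hw r hr'.2⟩
      apply le_antisymm _ bot_le
      rw [← pos_inf_neg' (F := F) D hD, inf_comm]
      exact inf_le_inf_left _ hle
    · intro i hi
      unfold starOK at hst
      rw [List.all_eq_true] at hst
      have h1 := hst i (List.mem_range.mpr hi)
      simp only [Bool.and_eq_true, decide_eq_true_eq, beq_iff_eq] at h1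
      obtain ⟨⟨h2, h3⟩, -⟩ := h1
      have hnl := neg_lt D hD _ (simple_lt D hsim i hi)
      refine ⟨h2, ?_⟩
      rw [cjg_word_rootSubgroup D hD w hw _ hnl, ← (rhoFast_eq D tabs ht w hw _ hnl).1, h3]
    · intro j hj
      unfold starOK at hst
      rw [List.all_eq_true] at hst
      have h1 := hst j (List.mem_range.mpr hj)
      simp only [Bool.and_eq_true, List.any_eq_true, beq_iff_eq] at h1
      obtain ⟨-, k, hk, e⟩ := h1
      exact ⟨k, List.mem_range.mp hk, e⟩
  have hD' := hD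
  simp only [List.mem_cons, List.not_mem_nil, or_false] at hD'
  rcases hD' with rfl | rfl | rfl | rfl | rfl | rfl | rfl
  · exact key _ _ _ tabsOK_G2 w0OK_G2 (by decide) starOK_G2
  · exact key _ _ _ tabsOK_B2 w0OK_B2 (by decide) starOK_B2
  · exact key _ _ _ tabsOK_D4 w0OK_D4 (by decide) starOK_D4
  · exact key _ _ _ tabsOK_F4 w0OK_F4 (by decide) starOK_F4
  · exact key _ _ _ tabsOK_E6 w0OK_E6 (by decide) starOK_E6
  · exact key _ _ _ tabsOK_E7 w0OK_E7 (by decide) starOK_E7
  · exact key _ _ _ tabsOK_E8 w0OK_E8 (by decide) starOK_E8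

end Cfsg.Agent.Helper18.Aut
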