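import Cfsg.Agent.Helper18.Aut.ChevInst

/-!
Helper18: the hypotheses `L1Hyp` of the abstract reduction, packaged for the Chevalley groups (the construction
is the one inside `chev_L1`), and consequences: the normaliser of `U` is `B`, and an element normalising `U` and
`V` lies in `H`.
-/

set_option autoImplicit false

namespace Cfsg.Agent.Helper18.Aut

open Cfsg Cfsg.Lie Cfsg.Agent.Helper18 Cfsg.Agent.Helper6

section

variable {F : Type*} [Field F] (D : ChevalleyDatum)
  (hD : D ∈ [chevG2, chevB2, chevD4, chevF4, chevE6, chevE7, chevE8])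

/-- the hypotheses of the first reduction hold in the Chevalley groups -/
theorem chev_L1Hyp [Fintype F] (p : ℕ) [Fact p.Prime] [CharP F p] :
    ∃ (P : BNPair ↥(D.group F)) (n₀ : ↥(D.group F)) (star' : Fin D.rank → Fin D.rank),
      (∀ b : ↥(D.group F), b ∈ P.B ↔ (b : GL D.Idx F) ∈ D.borelSubgroup F) ∧
      L1Hyp P p ((D.posUnipotent F).subgroupOf (D.group F)) ((D.negUnipotent F).subgroupOf (D.group F))
        (fun i : Fin D.rank => nS D hD i.val)
        (fun i : Fin D.rank => (D.rootSubgroup F (D.simple i)).subgroupOf (D.group F))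
        (fun i : Fin D.rank => (D.rootSubgroup F (D.neg (D.simple i))).subgroupOf (D.group F))
        n₀ star' := by
  classical
  obtain ⟨P, hB, hN, hS⟩ := Cfsg.Agent.S1042.result (F := F) D hD
  obtain ⟨n₀, star, hn₀, hn₀U, hstar, hsurj⟩ := exists_longest_star (F := F) D hD
  have hsim := simpleOK_of_mem D hD
  have hposOK := posOK_of_mem D hD
  have hBG := borel_le_group (F := F) D hD
  have hUG := pos_le_group (F := F) D hD
  have hVG := neg_le_group (F := F) D hD
  have hn₀G : n₀ ∈ D.group F := monomial_le_group D hD hn₀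
  let star' : Fin D.rank → Fin D.rank := fun i => ⟨star i, (hstar i i.2).1⟩
  have hmemB : ∀ b : ↥(D.group F), b ∈ P.B ↔ (b : GL D.Idx F) ∈ D.borelSubgroup F := by
    intro b; rw [hB, Subgroup.mem_subgroupOf]
  have hmemN : ∀ b : ↥(D.group F), b ∈ P.N ↔ (b : GL D.Idx F) ∈ D.monomialSubgroup F := by
    intro b; rw [hN, Subgroup.mem_subgroupOf]
  have hsS : ∀ i : Fin D.rank, nS D hD i.val ∈ P.S := by
    intro i
    rw [hS]
    exact ⟨i.val, i.2, nWordGL_val D hD _ _⟩
  have H : L1Hyp P p ((D.posUnipotent F).subgroupOf (D.group F)) ((D.negUnipotent F).subgroupOf (D.group F))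
      (fun i : Fin D.rank => nS D hD i.val)
      (fun i : Fin D.rank => (D.rootSubgroup F (D.simple i)).subgroupOf (D.group F))
      (fun i : Fin D.rank => (D.rootSubgroup F (D.neg (D.simple i))).subgroupOf (D.group F))
      ⟨n₀, hn₀G⟩ star' := by
    refine
      { sylow := Cfsg.Agent.S2326.result p D hD
        U_le := ?_
        U_norm := ?_
        S_eq := ?_
        s_not_norm := ?_
        B_inf_V := ?_
        n0_mem := ?_
        n0_U := ?_
        n0_V := ?_
        opp := ?_
        V_conj := ?_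
        Xm_le_V := ?_
        Xm_le_P := ?_
        para := ?_
        Xp_eq := ?_
        star_surj := ?_
        comm := ?_
        ncomm := ?_ }
    · intro x hx
      rw [hmemB]
      exact posUnipotent_le_borel D hD (Subgroup.mem_subgroupOf.mp hx)
    · intro b hb
      rw [cjg_subgroupOf, cjg_borel_pos D hD _ ((hmemB b).mp hb)]
    · ext n
      rw [hS]
      constructor
      · rintro ⟨i, hi, hn⟩
        refine ⟨⟨i, hi⟩, ?_⟩
        apply Subtype.ext
        apply Units.ext
        rw [hn]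
        exact nWordGL_val D hD _ _
      · rintro ⟨i, rfl⟩
        exact ⟨i.val, i.2, nWordGL_val D hD _ _⟩
    · intro i h
      rw [cjg_subgroupOf] at h
      have h1 := eq_of_subgroupOf_eq (cjg_le_of_mem (wordGL_mem_group D hD _) hUG) hUG h
      exact cjg_n_pos_ne D hD i.val i.2 h1
    · ext x
      rw [Subgroup.mem_inf, hmemB, Subgroup.mem_subgroupOf, Subgroup.mem_bot]
      constructor
      · rintro ⟨h1, h2⟩
        have : (x : GL D.Idx F) ∈ D.borelSubgroup F ⊓ D.negUnipotent F := Subgroup.mem_inf.mpr ⟨h1, h2⟩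
        rw [(Cfsg.Agent.S1037.result (F := F) D hD).1, Subgroup.mem_bot] at this
        exact Subtype.ext this
      · rintro rfl
        exact ⟨one_mem _, one_mem _⟩
    · rw [hmemN]; exact hn₀
    · rw [cjg_subgroupOf]
      show (cjg n₀ (D.posUnipotent F)).subgroupOf _ = _
      rw [hn₀U]
    · rw [cjg_subgroupOf]
      show (cjg n₀ (D.negUnipotent F)).subgroupOf _ = _
      rw [cjg_n0_neg D hD n₀ hn₀ hn₀U]
    · intro n hn hdis
      rw [cjg_subgroupOf] at hdis ⊢
      have h1 : cjg (n : GL D.Idx F) (D.posUnipotent F) ⊓ D.posUnipotent F = ⊥ := by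
        apply le_antisymm _ bot_le
        intro x hx
        have hxG : x ∈ D.group F := hUG (Subgroup.mem_inf.mp hx).2
        have : (⟨x, hxG⟩ : ↥(D.group F)) ∈
            (cjg (n : GL D.Idx F) (D.posUnipotent F)).subgroupOf (D.group F) ⊓
              (D.posUnipotent F).subgroupOf (D.group F) :=
          Subgroup.mem_inf.mpr ⟨Subgroup.mem_subgroupOf.mpr (Subgroup.mem_inf.mp hx).1,
            Subgroup.mem_subgroupOf.mpr (Subgroup.mem_inf.mp hx).2⟩
        rw [hdis, Subgroup.mem_bot] at this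
        rw [Subgroup.mem_bot]
        exact congrArg Subtype.val this
      rw [cjg_pos_eq_neg D hD _ ((hmemN n).mp hn) h1]
    · intro b hb
      obtain ⟨u, hu, e⟩ := cjg_borel_neg D hD _ ((hmemB b).mp hb)
      refine ⟨⟨u, hUG hu⟩, Subgroup.mem_subgroupOf.mpr hu, ?_⟩
      rw [cjg_subgroupOf, cjg_subgroupOf, e]
    · intro i x hx
      rw [Subgroup.mem_subgroupOf] at hx ⊢
      have hpos : D.IsPosRoot (D.simple i) :=
        (isPosRoot_iff D _ hposOK _).mpr ⟨simple_pos D hD i i.2, simple_lt D hsim i i.2⟩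
      exact rootSubgroup_le_neg D _ (neg_of_pos D hD _ hpos) hx
    · intro i x hx
      rw [Subgroup.mem_subgroupOf] at hx
      obtain ⟨c, hc⟩ := mem_rootSubgroup D hD _ _ hx
      rcases xGL_neg_simple_mem D hD i.val i.2 c with rfl | ⟨b₁, hb₁, b₂, hb₂, e⟩
      · rw [xGL_zero' D hD] at hc
        have : x = 1 := Subtype.ext hc
        rw [this]; exact one_mem _
      · have e' : x = (⟨b₁, hBG hb₁⟩ : ↥(D.group F)) * nS D hD i.val * ⟨b₂, hBG hb₂⟩ := by
          apply Subtype.ext
          rw [hc, e]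
          rfl
        rw [e']
        apply mul_mem (mul_mem ?_ ?_) ?_
        · exact B_le_parabolic P _ ((hmemB _).mpr hb₁)
        · exact closure_le_parabolic P _ (Subgroup.subset_closure (Set.mem_singleton _))
        · exact B_le_parabolic P _ ((hmemB _).mpr hb₂)
    · intro i g hg
      have h1 : g ∈ (P.parabolic {nS D hD i.val} : Set ↥(D.group F)) := hg
      rw [parabolic_singleton (hsS i)] at h1
      rcases h1 with h1 | h1
      · exact Or.inl h1
      · rw [mem_dc] at h1
        obtain ⟨b, hb, b', hb', e⟩ := h1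
        rcases n_mul_borel D hD i.val i.2 _ ((hmemB b').mp hb') with ⟨b₁, hb₁, e₁⟩ | ⟨b₁, hb₁, t, e₁⟩
        · right; left
          refine ⟨b * ⟨b₁, hBG hb₁⟩, mul_mem hb ((hmemB _).mpr hb₁), ?_⟩
          rw [e, mul_assoc, mul_assoc]
          congr 1
          apply Subtype.ext
          exact e₁
        · right; right
          refine ⟨b * ⟨b₁, hBG hb₁⟩, mul_mem hb ((hmemB _).mpr hb₁), xS D hD (D.neg (D.simple i)) t,
            Subgroup.mem_subgroupOf.mpr (xGL_mem_rootSubgroup D hD _ _), ?_⟩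
          rw [e, mul_assoc, mul_assoc]
          congr 1
          apply Subtype.ext
          exact e₁
    · intro i
      rw [cjg_subgroupOf]
      show (cjg n₀ _).subgroupOf _ = _
      rw [(hstar i i.2).2]
    · intro j
      obtain ⟨i, hi, e⟩ := hsurj j.val j.2
      exact ⟨⟨i, hi⟩, Fin.ext e⟩
    · intro i j hij a ha b hb
      rw [Subgroup.mem_subgroupOf] at ha hb
      obtain ⟨t, ht⟩ := mem_rootSubgroup D hD _ _ ha
      obtain ⟨u, hu⟩ := mem_rootSubgroup D hD _ _ hb
      apply Subtype.ext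
      rw [Subgroup.coe_mul, Subgroup.coe_mul, ht, hu]
      exact xGL_comm_pm D hD i.val j.val i.2 j.2 (fun e => hij (Fin.ext e)) t u
    · intro i
      refine ⟨xS D hD (D.simple i) 1, Subgroup.mem_subgroupOf.mpr (xGL_mem_rootSubgroup D hD _ _),
        xS D hD (D.neg (D.simple i)) (-1), Subgroup.mem_subgroupOf.mpr (xGL_mem_rootSubgroup D hD _ _), ?_⟩
      intro e
      exact xGL_not_comm D hD i.val i.2 (congrArg Subtype.val e)
  exact ⟨P, ⟨n₀, hn₀G⟩, star', hmemB, H⟩


include hD in
/-- an element of the group normalising `U` and `V` lies in `H` -/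
theorem mem_diag_of_normalizes [Finite F] (x : ↥(D.group F))
    (hU : cjg x ((D.posUnipotent F).subgroupOf (D.group F)) = (D.posUnipotent F).subgroupOf (D.group F))
    (hV : cjg x ((D.negUnipotent F).subgroupOf (D.group F)) = (D.negUnipotent F).subgroupOf (D.group F)) :
    (x : GL D.Idx F) ∈ D.diagonalSubgroup F := by
  classical
  haveI : Fintype F := Fintype.ofFinite F
  obtain ⟨p, hp⟩ := CharP.exists F
  haveI := hp
  haveI : Fact p.Prime := ⟨CharP.char_is_prime F p⟩
  obtain ⟨P, n₀, star', hmemB, H⟩ := chev_L1Hyp (F := F) D hD p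
  have hBG := borel_le_group (F := F) D hD
  have hUG := pos_le_group (F := F) D hD
  have hxB := (hmemB x).mp (H.normalizer_eq x hU)
  obtain ⟨u, hu, h, hh, e⟩ := mem_borel_decomp D hD _ hxB
  have huG : u ∈ D.group F := hUG hu
  have hhG : h ∈ D.group F := hBG (diagonal_le_borel D hD hh)
  have ex : x = (⟨u, huG⟩ : ↥(D.group F)) * ⟨h, hhG⟩ := Subtype.ext e
  -- `u` normalises `V`
  have huV : cjg (⟨u, huG⟩ : ↥(D.group F)) ((D.negUnipotent F).subgroupOf (D.group F)) =
      (D.negUnipotent F).subgroupOf (D.group F) := by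
    have h1 : cjg (⟨h, hhG⟩ : ↥(D.group F)) ((D.negUnipotent F).subgroupOf (D.group F)) =
        (D.negUnipotent F).subgroupOf (D.group F) := by
      rw [cjg_subgroupOf]
      show (cjg h (D.negUnipotent F)).subgroupOf _ = _
      rw [cjg_diag_neg D hD h hh]
    rw [ex, cjg_mul, h1] at hV
    exact hV
  -- the conjugate of `u` by `n₀` lies in `B ∩ V`
  have hn0 : cjg n₀⁻¹ ((D.negUnipotent F).subgroupOf (D.group F)) = (D.posUnipotent F).subgroupOf (D.group F) := by
    rw [← H.n0_U, cjg_inv_cjg]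
  have hn0' : cjg n₀⁻¹ ((D.posUnipotent F).subgroupOf (D.group F)) = (D.negUnipotent F).subgroupOf (D.group F) := by
    rw [← H.n0_V, cjg_inv_cjg]
  have hyU : cjg (n₀⁻¹ * ⟨u, huG⟩ * n₀) ((D.posUnipotent F).subgroupOf (D.group F)) =
      (D.posUnipotent F).subgroupOf (D.group F) := by
    rw [cjg_mul, cjg_mul, H.n0_U, huV, hn0]
  have hyB := H.normalizer_eq _ hyU
  have hyV : n₀⁻¹ * ⟨u, huG⟩ * n₀ ∈ (D.negUnipotent F).subgroupOf (D.group F) := by
    rw [← hn0', mem_cjg]
    have : (n₀⁻¹)⁻¹ * (n₀⁻¹ * ⟨u, huG⟩ * n₀) * n₀⁻¹ = (⟨u, huG⟩ : ↥(D.group F)) := by group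
    rw [this]
    exact Subgroup.mem_subgroupOf.mpr hu
  have hy1 : n₀⁻¹ * ⟨u, huG⟩ * n₀ ∈ P.B ⊓ (D.negUnipotent F).subgroupOf (D.group F) :=
    Subgroup.mem_inf.mpr ⟨hyB, hyV⟩
  rw [H.B_inf_V, Subgroup.mem_bot] at hy1
  have hu1 : (⟨u, huG⟩ : ↥(D.group F)) = 1 := by
    have : (⟨u, huG⟩ : ↥(D.group F)) = n₀ * (n₀⁻¹ * ⟨u, huG⟩ * n₀) * n₀⁻¹ := by group
    rw [this, hy1]
    group
  have hu1' : u = 1 := congrArg Subtype.val hu1
  rw [e, hu1', one_mul]
  exact hh

end

end Cfsg.Agent.Helper18.Aut
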