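import Cfsg.Agent.Helper40.SL2Hom

/-!
Helper18: automorphisms permuting the fundamental root subgroups: the functional equations
(abstract part of Steinberg's theorem on the automorphisms of the Chevalley groups over finite fields).
-/

set_option autoImplicit false

namespace Cfsg.Agent.Helper18.Aut

open Cfsg.Agent.Helper40.SL2Hom

section FieldLemmas

variable {F : Type*} [Field F] [Finite F]

/-- an additive map with `φ 1 = 1` and `φ (t² u) = φ(t)² φ(u)` on a finite field is multiplicative -/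
theorem mul_of_sq (φ : F → F) (hadd : ∀ a b, φ (a + b) = φ a + φ b) (h1 : φ 1 = 1)
    (hsq : ∀ t u, t ≠ 0 → φ (t ^ 2 * u) = φ t ^ 2 * φ u) : ∀ a b, φ (a * b) = φ a * φ b := by
  have h0 : φ 0 = 0 := by
    have := hadd 0 0
    rw [add_zero] at this
    exact left_eq_add.mp this
  have hneg : ∀ a, φ (-a) = - φ a := by
    intro a
    have := hadd a (-a)
    rw [add_neg_cancel, h0] at this
    exact (neg_eq_of_add_eq_zero_right this.symm).symm
  have hsub : ∀ a b, φ (a - b) = φ a - φ b := by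
    intro a b
    rw [sub_eq_add_neg, hadd, hneg, ← sub_eq_add_neg]
  have hS : ∀ t u, φ (t ^ 2 * u) = φ (t ^ 2) * φ u := by
    intro t u
    by_cases ht : t = 0
    · subst ht
      simp [h0]
    · have e := hsq t 1 ht
      rw [mul_one, h1, mul_one] at e
      rw [hsq t u ht, e]
  intro a b
  by_cases h2 : (2 : F) = 0
  · have hchar : ringChar F = 2 := CharP.ringChar_of_prime_eq_zero Nat.prime_two (by exact_mod_cast h2)
    obtain ⟨r, hr⟩ := FiniteField.isSquare_of_char_two hchar a
    have : a = r ^ 2 := by rw [hr, sq]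
    rw [this, hS]
  · have e : a = ((a + 1) / 2) ^ 2 - ((a - 1) / 2) ^ 2 := by
      field_simp
      ring
    have e2 : a * b = ((a + 1) / 2) ^ 2 * b - ((a - 1) / 2) ^ 2 * b := by
      rw [← sub_mul, ← e]
    rw [e2, hsub, hS, hS, ← sub_mul, ← hsub, ← e]

omit [Finite F] in
/-- if `t ↦ t²` intertwines two automorphisms then the characteristic is `2` -/
theorem char_two_of_sq (σ₁ σ₂ : F ≃+* F) (h : ∀ t, t ≠ 0 → σ₁ t = σ₂ t ^ 2) : ringChar F = 2 := by
  apply CharP.ringChar_of_prime_eq_zero Nat.prime_two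
  have h1 := h 1 one_ne_zero
  by_contra h2
  have h2' : (2 : F) ≠ 0 := by exact_mod_cast h2
  have h3 := h 2 h2'
  have e : σ₁ 2 = 2 := map_ofNat σ₁ 2
  have e' : σ₂ 2 = 2 := map_ofNat σ₂ 2
  rw [e, e'] at h3
  apply h2'
  linear_combination (-1 : F) * h3

omit [Finite F] in
/-- if `t ↦ t³` intertwines two automorphisms then the characteristic is `3` or the field has two elements -/
theorem char_three_of_cube (σ₁ σ₂ : F ≃+* F) (h : ∀ t, t ≠ 0 → σ₁ t = σ₂ t ^ 3) :
    ringChar F = 3 ∨ ∀ t : F, t = 0 ∨ t = 1 := by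
  have hc : ∀ s : F, s ^ 3 = σ₁ (σ₂.symm s) := by
    intro s
    by_cases hs : s = 0
    · subst hs; simp
    · have : σ₂.symm s ≠ 0 := by
        intro e
        apply hs
        have := congrArg σ₂ e
        simpa using this
      rw [h _ this]
      simp
  have hadd : ∀ a b : F, (a + b) ^ 3 = a ^ 3 + b ^ 3 := by
    intro a b
    rw [hc, hc, hc, map_add, map_add]
  have h6 : (2 : F) * 3 = 0 := by
    have := hadd 1 1
    linear_combination this
  rcases mul_eq_zero.mp h6 with h2 | h3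
  · right
    intro t
    have := hadd 1 t
    have e : (3 : F) * (t * (1 + t)) = 0 := by linear_combination this
    have h3 : (3 : F) ≠ 0 := by
      intro h3
      have : (1 : F) = 0 := by linear_combination h3 - h2
      exact one_ne_zero this
    rcases mul_eq_zero.mp (mul_eq_zero.mp e |>.resolve_left h3) with ht | ht
    · left; exact ht
    · right
      linear_combination ht - h2
  · left
    exact CharP.ringChar_of_prime_eq_zero Nat.prime_three (by exact_mod_cast h3)

end FieldLemmas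

section SL2

variable {F : Type*} [Field F]

/-- `diag(m, m⁻¹)` -/
noncomputable def Dg (m : F) (hm : m ≠ 0) : Matrix.SpecialLinearGroup (Fin 2) F :=
  ⟨!![m, 0; 0, m⁻¹], by simp [Matrix.det_fin_two, hm]⟩

theorem Dg_coe (m : F) (hm : m ≠ 0) :
    ((Dg m hm : Matrix.SpecialLinearGroup (Fin 2) F) : Matrix (Fin 2) (Fin 2) F) = !![m, 0; 0, m⁻¹] := rfl

theorem ULU_eq (a b : F) (hm : 1 + a * b ≠ 0) :
    (U a * L b * U a : Matrix.SpecialLinearGroup (Fin 2) F) =
      L (b / (1 + a * b)) * Dg (1 + a * b) hm * U (a * (2 + a * b) / (1 + a * b)) := by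
  have hm' : 1 + b * a ≠ 0 := by rwa [mul_comm]
  apply sl2_ext
  · simp [Matrix.SpecialLinearGroup.coe_mul, U_coe, L_coe, Dg_coe, Matrix.mul_apply, Fin.sum_univ_two]
  · simp only [Matrix.SpecialLinearGroup.coe_mul, U_coe, L_coe, Dg_coe, Matrix.mul_apply, Fin.sum_univ_two]
    simp
    field_simp
    ring
  · simp only [Matrix.SpecialLinearGroup.coe_mul, U_coe, L_coe, Dg_coe, Matrix.mul_apply, Fin.sum_univ_two]
    simp
    field_simp
  · simp only [Matrix.SpecialLinearGroup.coe_mul, U_coe, L_coe, Dg_coe, Matrix.mul_apply, Fin.sum_univ_two]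
    simp
    field_simp
    ring

theorem Dg_mul_U (m : F) (hm : m ≠ 0) (c : F) :
    (Dg m hm * U c : Matrix.SpecialLinearGroup (Fin 2) F) = U (m ^ 2 * c) * Dg m hm := by
  apply sl2_ext
  · simp [Matrix.SpecialLinearGroup.coe_mul, U_coe, Dg_coe, Matrix.mul_apply, Fin.sum_univ_two]
  · simp only [Matrix.SpecialLinearGroup.coe_mul, U_coe, Dg_coe, Matrix.mul_apply, Fin.sum_univ_two]
    simp
    field_simp
  · simp [Matrix.SpecialLinearGroup.coe_mul, U_coe, Dg_coe, Matrix.mul_apply, Fin.sum_univ_two]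
  · simp [Matrix.SpecialLinearGroup.coe_mul, U_coe, Dg_coe, Matrix.mul_apply, Fin.sum_univ_two]

variable {Γ : Type*} [Group Γ] {x y : F → Γ}

/-- the rank one lemma: if `x(a) y(b) x(a)` conjugates some `x(c)`, `c ≠ 0`, into `Y`, then `b = -a⁻¹` -/
theorem rank_one_key (R : Rel x y) (hdisj : ∀ t u, x t = y u → t = 0) (a b c d : F) (hc : c ≠ 0)
    (hW : (x a * y b * x a) * x c * (x a * y b * x a)⁻¹ = y d) : 1 + a * b = 0 := by
  by_contra hm
  set m := 1 + a * b with hmdef
  have e1 : x a * y b * x a = y (b / m) * R.hom (Dg m hm) * x (a * (2 + a * b) / m) := by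
    rw [← R.hom_U, ← R.hom_L, ← R.hom_U, ← R.hom_L, ← map_mul, ← map_mul, ← map_mul, ← map_mul, ULU_eq a b hm]
  have e2 : R.hom (Dg m hm) * x c = x (m ^ 2 * c) * R.hom (Dg m hm) := by
    rw [← R.hom_U, ← R.hom_U, ← map_mul, ← map_mul, Dg_mul_U]
  have e3 : ∀ r : F, x r * x c * (x r)⁻¹ = x c := by
    intro r
    rw [← R.x_add, add_comm, R.x_add, mul_inv_cancel_right]
  have e4 : (x a * y b * x a) * x c * (x a * y b * x a)⁻¹ =
      y (b / m) * x (m ^ 2 * c) * (y (b / m))⁻¹ := by
    rw [e1]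
    set l := y (b / m)
    set D := R.hom (Dg m hm)
    set r := x (a * (2 + a * b) / m)
    have : l * D * r * x c * (l * D * r)⁻¹ = l * (D * (r * x c * r⁻¹)) * D⁻¹ * l⁻¹ := by group
    rw [this, e3, e2]
    group
  rw [e4] at hW
  have e5 : x (m ^ 2 * c) = y d := by
    have : x (m ^ 2 * c) = (y (b / m))⁻¹ * y d * y (b / m) := by
      rw [← hW]; group
    rw [this, ← R.y_neg, ← R.y_add, ← R.y_add]
    congr 1
    ring
  have := hdisj _ _ e5
  exact mul_ne_zero (pow_ne_zero 2 hm) hc this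

end SL2



/-- the hypotheses of the second step -/
structure L2Hyp {Γ F I : Type*} [Group Γ] [Field F] (A : I → I → ℤ) (x y : I → F → Γ) : Prop where
  rel : ∀ i, Rel (x i) (y i)
  x_inj : ∀ i, Function.Injective (x i)
  y_inj : ∀ i, Function.Injective (y i)
  disj : ∀ i t u, x i t = y i u → t = 0
  A_diag : ∀ i, A i i = 2
  hx : ∀ i k t u, t ≠ 0 → h (x i) (y i) t * x k u * (h (x i) (y i) t)⁻¹ = x k (t ^ (A i k) * u)

section L2

variable {Γ F I : Type*} [Group Γ] [Field F] [Finite F] {A : I → I → ℤ} {x y : I → F → Γ}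

theorem L2Hyp.main (H : L2Hyp A x y) (θ : Γ ≃* Γ) (π : I → I)
    (hX : ∀ i t, ∃ t', θ (x i t) = x (π i) t') (hY : ∀ i t, ∃ t', θ (y i t) = y (π i) t') :
    ∃ (c : I → Fˣ) (σ : I → F ≃+* F),
      (∀ i t, θ (x i t) = x (π i) ((c i : F) * σ i t)) ∧
      (∀ i t, θ (y i t) = y (π i) (((c i)⁻¹ : Fˣ) * σ i t)) ∧
      ∀ i k t, t ≠ 0 → σ k t ^ (A i k) = σ i t ^ (A (π i) (π k)) := by
  choose f hf using hX
  choose g hg using hY
  have fadd : ∀ i a b, f i (a + b) = f i a + f i b := by
    intro i a b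
    apply H.x_inj (π i)
    rw [← hf, (H.rel i).x_add, map_mul, hf, hf, (H.rel (π i)).x_add]
  have gadd : ∀ i a b, g i (a + b) = g i a + g i b := by
    intro i a b
    apply H.y_inj (π i)
    rw [← hg, (H.rel i).y_add, map_mul, hg, hg, (H.rel (π i)).y_add]
  have f0 : ∀ i, f i 0 = 0 := by
    intro i
    have := fadd i 0 0
    rw [add_zero] at this
    exact left_eq_add.mp this
  have g0 : ∀ i, g i 0 = 0 := by
    intro i
    have := gadd i 0 0
    rw [add_zero] at this
    exact left_eq_add.mp this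
  have fne : ∀ i t, t ≠ 0 → f i t ≠ 0 := by
    intro i t ht e
    apply ht
    apply H.x_inj i
    apply θ.injective
    rw [hf, e, hf, f0]
  -- the rank one relation
  have star : ∀ i t, t ≠ 0 → g i (-t⁻¹) = -(f i t)⁻¹ := by
    intro i t ht
    have h1 := (H.rel i).conj t 1 ht
    have h2 := congrArg θ h1
    unfold w at h2
    simp only [map_mul, map_inv, hf, hg] at h2
    have h3 := rank_one_key (H.rel (π i)) (H.disj (π i)) _ _ _ _ (fne i 1 one_ne_zero) h2
    have ha := fne i t ht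
    apply mul_left_cancel₀ ha
    rw [mul_neg, mul_inv_cancel₀ ha]
    linear_combination h3
  -- the image of `w` and of `h`
  have hw : ∀ i t, t ≠ 0 → θ (w (x i) (y i) t) = w (x (π i)) (y (π i)) (f i t) := by
    intro i t ht
    unfold w
    rw [map_mul, map_mul, hf, hg, star i t ht]
  have hh : ∀ i t, t ≠ 0 → θ (h (x i) (y i) t) = h (x (π i)) (y (π i)) (f i t * (f i 1)⁻¹) := by
    intro i t ht
    have R := H.rel (π i)
    have e1 : h (x i) (y i) t = w (x i) (y i) t * (w (x i) (y i) 1)⁻¹ := rfl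
    rw [e1, map_mul, map_inv, hw i t ht, hw i 1 one_ne_zero,
      ← Rel.h_mul_n (x := x (π i)) (y := y (π i)) (f i t), ← Rel.h_mul_n (x := x (π i)) (y := y (π i)) (f i 1),
      R.h_mul _ _ (fne i t ht) (inv_ne_zero (fne i 1 one_ne_zero)), R.h_inv _ (fne i 1 one_ne_zero)]
    group
  -- the functional equation
  have E1 : ∀ i k t u, t ≠ 0 →
      f k (t ^ (A i k) * u) = (f i t * (f i 1)⁻¹) ^ (A (π i) (π k)) * f k u := by
    intro i k t u ht
    have h1 := congrArg θ (H.hx i k t u ht)
    rw [map_mul, map_mul, map_inv, hh i t ht, hf, hf,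
      H.hx (π i) (π k) _ _ (mul_ne_zero (fne i t ht) (inv_ne_zero (fne i 1 one_ne_zero)))] at h1
    exact (H.x_inj (π k) h1).symm
  -- the normalised maps are field automorphisms
  have hmul : ∀ i a b, f i (a * b) * (f i 1)⁻¹ = (f i a * (f i 1)⁻¹) * (f i b * (f i 1)⁻¹) := by
    intro i
    apply mul_of_sq (fun t => f i t * (f i 1)⁻¹)
    · intro a b
      show f i (a + b) * (f i 1)⁻¹ = _
      rw [fadd, add_mul]
    · show f i 1 * (f i 1)⁻¹ = 1
      exact mul_inv_cancel₀ (fne i 1 one_ne_zero)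
    · intro t u ht
      show f i (t ^ 2 * u) * (f i 1)⁻¹ = (f i t * (f i 1)⁻¹) ^ 2 * (f i u * (f i 1)⁻¹)
      have := E1 i i t u ht
      rw [H.A_diag, H.A_diag] at this
      have e : (2 : ℤ) = ((2 : ℕ) : ℤ) := rfl
      rw [e, zpow_natCast, zpow_natCast] at this
      rw [this]
      ring
  let φ : I → F →+* F := fun i =>
    { toFun := fun t => f i t * (f i 1)⁻¹
      map_one' := mul_inv_cancel₀ (fne i 1 one_ne_zero)
      map_mul' := hmul i
      map_zero' := by show f i 0 * (f i 1)⁻¹ = 0; rw [f0, zero_mul]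
      map_add' := by intro a b; show f i (a + b) * (f i 1)⁻¹ = _; rw [fadd, add_mul] }
  let σ : I → F ≃+* F := fun i =>
    RingEquiv.ofBijective (φ i) (Finite.injective_iff_bijective.mp (φ i).injective)
  have hσ : ∀ i t, σ i t = f i t * (f i 1)⁻¹ := fun i t => rfl
  have hfσ : ∀ i t, f i t = f i 1 * σ i t := by
    intro i t
    rw [hσ, mul_comm (f i t), mul_inv_cancel_left₀ (fne i 1 one_ne_zero)]
  refine ⟨fun i => Units.mk0 (f i 1) (fne i 1 one_ne_zero), σ, ?_, ?_, ?_⟩
  · intro i t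
    rw [hf, Units.val_mk0, ← hfσ]
  · intro i t
    rw [hg]
    congr 1
    by_cases ht : t = 0
    · subst ht; rw [g0, map_zero, mul_zero]
    · have h1 := star i (-t⁻¹) (neg_ne_zero.mpr (inv_ne_zero ht))
      have e : -(-t⁻¹)⁻¹ = t := by rw [inv_neg, neg_neg, inv_inv]
      rw [e] at h1
      rw [h1, hfσ, map_neg, map_inv₀, Units.val_inv_eq_inv_val, Units.val_mk0]
      have hs : σ i t ≠ 0 := by
        intro e0
        apply ht
        have := (σ i).injective (e0.trans (map_zero (σ i)).symm)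
        exact this
      have hc := fne i 1 one_ne_zero
      field_simp
  · intro i k t ht
    have h1 := E1 i k t 1 ht
    rw [mul_one, ← hσ i t, hfσ k, map_zpow₀] at h1
    have hc := fne k 1 one_ne_zero
    have : f k 1 * σ k t ^ A i k = f k 1 * σ i t ^ A (π i) (π k) := by
      rw [h1, mul_comm]
    exact mul_left_cancel₀ hc this

end L2

end Cfsg.Agent.Helper18.Aut
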