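import Cfsg.Agent.Helper18.Aut.ChevGL
import Cfsg.Agent.Helper18.Aut.Level2
import Cfsg.Agent.Helper40.SL2Chev
import Cfsg.Agent.S1042
import Cfsg.Agent.S2326
import Cfsg.Agent.S1032

/-!
Helper18: the abstract reductions `L1Hyp`, `L2Hyp` hold in the Chevalley groups of the seven tabulated types.
-/

set_option autoImplicit false

namespace Cfsg.Agent.Helper18.Aut

open Cfsg Cfsg.Lie Cfsg.Agent.Helper18 Cfsg.Agent.Helper6

section Transfer

variable {Γ : Type*} [Group Γ]

theorem cjg_subgroupOf (G₀ K : Subgroup Γ) (b : G₀) :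
    cjg b (K.subgroupOf G₀) = (cjg (b : Γ) K).subgroupOf G₀ := by
  ext x
  rw [mem_cjg, Subgroup.mem_subgroupOf, Subgroup.mem_subgroupOf, mem_cjg]
  rfl

theorem cjg_le_of_mem {G₀ K : Subgroup Γ} {n : Γ} (hn : n ∈ G₀) (hK : K ≤ G₀) : cjg n K ≤ G₀ := by
  intro x hx
  rw [mem_cjg] at hx
  have : x = n * (n⁻¹ * x * n) * n⁻¹ := by group
  rw [this]
  exact G₀.mul_mem (G₀.mul_mem hn (hK hx)) (G₀.inv_mem hn)

theorem eq_of_subgroupOf_eq {G₀ K L : Subgroup Γ} (hK : K ≤ G₀) (hL : L ≤ G₀)
    (h : K.subgroupOf G₀ = L.subgroupOf G₀) : K = L := by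
  rw [Subgroup.subgroupOf_inj, inf_eq_left.mpr hK, inf_eq_left.mpr hL] at h
  exact h


open Cfsg.Agent.Helper40.SL2Hom in
/-- the rank one relations pass to a subgroup containing the elements -/
theorem rel_subtype {F : Type*} [Field F] (G₀ : Subgroup Γ) (x y : F → G₀)
    (R : Rel (fun t => (x t : Γ)) (fun t => (y t : Γ))) : Rel x y where
  x_add := fun s t => Subtype.ext (by simpa using R.x_add s t)
  y_add := fun s t => Subtype.ext (by simpa using R.y_add s t)
  conj := fun t u ht => Subtype.ext (by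
    have := R.conj t u ht
    simp only [w] at this ⊢
    simpa [Subgroup.coe_mul, Subgroup.coe_inv] using this)
  h_mul := fun s t hs ht => Subtype.ext (by
    have := R.h_mul s t hs ht
    simp only [h, w] at this ⊢
    simpa [Subgroup.coe_mul, Subgroup.coe_inv] using this)

end Transfer

section
variable {F : Type*} [Field F]
variable (D : ChevalleyDatum) (hD : D ∈ [chevG2, chevB2, chevD4, chevF4, chevE6, chevE7, chevE8])
include hD

/-- the root element `x_r(t)` in the Chevalley group -/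
noncomputable def xS (r : ℕ) (t : F) : ↥(D.group F) := ⟨xGL D F r t, xGL_mem_group' D hD r t⟩

theorem wordGL_mem_group (w : List (ℕ × F)) : wordGL D F w ∈ D.group F := by
  unfold wordGL
  apply Subgroup.list_prod_mem
  intro g hg
  obtain ⟨p, -, rfl⟩ := List.mem_map.mp hg
  exact xGL_mem_group' D hD _ _

/-- the element `n_{p_i}` in the Chevalley group -/
noncomputable def nS (i : ℕ) : ↥(D.group F) :=
  ⟨wordGL D F (D.nWord (D.simple i) (1 : F)), wordGL_mem_group D hD _⟩

theorem borel_le_group : D.borelSubgroup F ≤ D.group F := (Cfsg.Agent.S1043.result D hD).1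
theorem monomial_le_group : D.monomialSubgroup F ≤ D.group F := (Cfsg.Agent.S1043.result D hD).2.1
theorem pos_le_group : D.posUnipotent F ≤ D.group F :=
  le_trans (posUnipotent_le_borel D hD) (borel_le_group D hD)

theorem neg_le_group : D.negUnipotent F ≤ D.group F := by
  unfold ChevalleyDatum.negUnipotent
  rw [Subgroup.closure_le]
  rintro g ⟨r, t, -, hg⟩
  have : g = xGL D F r t := Units.ext (by rw [hg, xGL_val D _ (triOK_of_mem D hD)])
  rw [this]
  exact xGL_mem_group' D hD r t

theorem rootSubgroup_le_group (r : ℕ) : D.rootSubgroup F r ≤ D.group F := by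
  unfold ChevalleyDatum.rootSubgroup
  rw [Subgroup.closure_le]
  rintro g ⟨t, hg⟩
  have : g = xGL D F r t := Units.ext (by rw [hg, xGL_val D _ (triOK_of_mem D hD)])
  rw [this]
  exact xGL_mem_group' D hD r t

/-- `n₀ V n₀⁻¹ = U` -/
theorem cjg_n0_neg (n₀ : GL D.Idx F) (hn : n₀ ∈ D.monomialSubgroup F)
    (h : cjg n₀ (D.posUnipotent F) = D.negUnipotent F) : cjg n₀ (D.negUnipotent F) = D.posUnipotent F := by
  have h1 : cjg n₀⁻¹ (D.posUnipotent F) ⊓ D.posUnipotent F = ⊥ := by
    have : cjg n₀⁻¹ (D.posUnipotent F ⊓ D.negUnipotent F) =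
        cjg n₀⁻¹ (D.posUnipotent F) ⊓ D.posUnipotent F := by
      rw [cjg_inf, ← h, cjg_inv_cjg]
    rw [← this, pos_inf_neg' D hD, cjg_bot]
  have h2 := cjg_pos_eq_neg D hD n₀⁻¹ (inv_mem hn) h1
  rw [← h2, cjg_cjg_inv]

/-- `x_p(1)` and `x_{-p}(-1)` do not commute -/
theorem xGL_not_comm (i : ℕ) (hi : i < D.rank) :
    xGL D F (D.simple i) 1 * xGL D F (D.neg (D.simple i)) (-1) ≠
      xGL D F (D.neg (D.simple i)) (-1) * xGL D F (D.simple i) 1 := by
  intro hc
  have hpi := simple_lt D (simpleOK_of_mem D hD) i hi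
  have hppos := simple_pos D hD i hi
  obtain ⟨η, hη, hcj⟩ := nGL_conj_xGL D hD (nConjHyp (F := F) D hD) i _ hi hpi
  rw [reflectRoot_simple D hD i] at hcj
  have h1 := hcj 1
  rw [wordGL_nWord'] at h1
  have e : (-(1 : F)⁻¹) = -1 := by simp
  rw [e] at h1
  set a := xGL D F (D.simple i) (1 : F) with ha
  set b := xGL D F (D.neg (D.simple i)) (-1 : F) with hb
  have h2 : a * b * a * a = a * (a * b * a) := by
    rw [show a * b * a * a = a * (b * a) * a by group, ← hc]; group
  rw [h2] at h1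
  have h3 : a = xGL D F (D.neg (D.simple i)) ((η : F) * 1) := mul_right_cancel h1
  have hpos : D.IsPosRoot (D.simple i) := (isPosRoot_iff D _ (posOK_of_mem D hD) _).mpr ⟨hppos, hpi⟩
  have hU : a ∈ D.posUnipotent F := xGL_mem_posUnipotent D hD _ ⟨hppos, hpi⟩ _
  have hV : a ∈ D.negUnipotent F := by
    rw [h3]
    exact rootSubgroup_le_neg D _ (neg_of_pos D hD _ hpos) (xGL_mem_rootSubgroup D hD _ _)
  have h4 : a ∈ D.posUnipotent F ⊓ D.negUnipotent F := Subgroup.mem_inf.mpr ⟨hU, hV⟩
  rw [pos_inf_neg' D hD, Subgroup.mem_bot, ha, xGL_eq_one_iff D hD _ hpi] at h4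
  exact one_ne_zero h4

/-- the first reduction for the Chevalley groups -/
theorem chev_L1 [Fintype F] (p : ℕ) [Fact p.Prime] [CharP F p] (θ : ↥(D.group F) ≃* ↥(D.group F)) :
    ∃ (g : ↥(D.group F)) (π : Equiv.Perm (Fin D.rank)), ∀ i : Fin D.rank,
      im (θ.trans (MulAut.conj g)) ((D.rootSubgroup F (D.simple i)).subgroupOf (D.group F)) =
          (D.rootSubgroup F (D.simple (π i))).subgroupOf (D.group F) ∧
      im (θ.trans (MulAut.conj g)) ((D.rootSubgroup F (D.neg (D.simple i))).subgroupOf (D.group F)) =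
          (D.rootSubgroup F (D.neg (D.simple (π i)))).subgroupOf (D.group F) := by
  classical
  obtain ⟨P, hB, hN, hS⟩ := Cfsg.Agent.S1042.result (F := F) D hD
  obtain ⟨n₀, star, hn₀, hn₀U, hstar, hsurj⟩ := exists_longest_star (F := F) D hD
  have hsim := simpleOK_of_mem D hD
  have hposOK := posOK_of_mem D hD
  have hBG := borel_le_group (F := F) D hD
  have hUG := pos_le_group (F := F) D hD
  have hVG := neg_le_group (F := F) D hD
  have hn₀G : n₀ ∈ D.group F := monomial_le_group D hD hn₀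
  let star' : Fin D.rank → Fin D.rank := fun i => ⟨star i, (hstar i i.2).1⟩
  have hmemB : ∀ b : ↥(D.group F), b ∈ P.B ↔ (b : GL D.Idx F) ∈ D.borelSubgroup F := by
    intro b; rw [hB, Subgroup.mem_subgroupOf]
  have hmemN : ∀ b : ↥(D.group F), b ∈ P.N ↔ (b : GL D.Idx F) ∈ D.monomialSubgroup F := by
    intro b; rw [hN, Subgroup.mem_subgroupOf]
  have hsS : ∀ i : Fin D.rank, nS D hD i.val ∈ P.S := by
    intro i
    rw [hS]
    exact ⟨i.val, i.2, nWordGL_val D hD _ _⟩
  have H : L1Hyp P p ((D.posUnipotent F).subgroupOf (D.group F)) ((D.negUnipotent F).subgroupOf (D.group F))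
      (fun i : Fin D.rank => nS D hD i.val)
      (fun i : Fin D.rank => (D.rootSubgroup F (D.simple i)).subgroupOf (D.group F))
      (fun i : Fin D.rank => (D.rootSubgroup F (D.neg (D.simple i))).subgroupOf (D.group F))
      ⟨n₀, hn₀G⟩ star' := by
    refine
      { sylow := Cfsg.Agent.S2326.result p D hD
        U_le := ?_
        U_norm := ?_
        S_eq := ?_
        s_not_norm := ?_
        B_inf_V := ?_
        n0_mem := ?_
        n0_U := ?_
        n0_V := ?_
        opp := ?_
        V_conj := ?_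
        Xm_le_V := ?_
        Xm_le_P := ?_
        para := ?_
        Xp_eq := ?_
        star_surj := ?_
        comm := ?_
        ncomm := ?_ }
    · intro x hx
      rw [hmemB]
      exact posUnipotent_le_borel D hD (Subgroup.mem_subgroupOf.mp hx)
    · intro b hb
      rw [cjg_subgroupOf, cjg_borel_pos D hD _ ((hmemB b).mp hb)]
    · ext n
      rw [hS]
      constructor
      · rintro ⟨i, hi, hn⟩
        refine ⟨⟨i, hi⟩, ?_⟩
        apply Subtype.ext
        apply Units.ext
        rw [hn]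
        exact nWordGL_val D hD _ _
      · rintro ⟨i, rfl⟩
        exact ⟨i.val, i.2, nWordGL_val D hD _ _⟩
    · intro i h
      rw [cjg_subgroupOf] at h
      have h1 := eq_of_subgroupOf_eq (cjg_le_of_mem (wordGL_mem_group D hD _) hUG) hUG h
      exact cjg_n_pos_ne D hD i.val i.2 h1
    · ext x
      rw [Subgroup.mem_inf, hmemB, Subgroup.mem_subgroupOf, Subgroup.mem_bot]
      constructor
      · rintro ⟨h1, h2⟩
        have : (x : GL D.Idx F) ∈ D.borelSubgroup F ⊓ D.negUnipotent F := Subgroup.mem_inf.mpr ⟨h1, h2⟩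
        rw [(Cfsg.Agent.S1037.result (F := F) D hD).1, Subgroup.mem_bot] at this
        exact Subtype.ext this
      · rintro rfl
        exact ⟨one_mem _, one_mem _⟩
    · rw [hmemN]; exact hn₀
    · rw [cjg_subgroupOf]
      show (cjg n₀ (D.posUnipotent F)).subgroupOf _ = _
      rw [hn₀U]
    · rw [cjg_subgroupOf]
      show (cjg n₀ (D.negUnipotent F)).subgroupOf _ = _
      rw [cjg_n0_neg D hD n₀ hn₀ hn₀U]
    · intro n hn hdis
      rw [cjg_subgroupOf] at hdis ⊢
      have h1 : cjg (n : GL D.Idx F) (D.posUnipotent F) ⊓ D.posUnipotent F = ⊥ := by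
        apply le_antisymm _ bot_le
        intro x hx
        have hxG : x ∈ D.group F := hUG (Subgroup.mem_inf.mp hx).2
        have : (⟨x, hxG⟩ : ↥(D.group F)) ∈
            (cjg (n : GL D.Idx F) (D.posUnipotent F)).subgroupOf (D.group F) ⊓
              (D.posUnipotent F).subgroupOf (D.group F) :=
          Subgroup.mem_inf.mpr ⟨Subgroup.mem_subgroupOf.mpr (Subgroup.mem_inf.mp hx).1,
            Subgroup.mem_subgroupOf.mpr (Subgroup.mem_inf.mp hx).2⟩
        rw [hdis, Subgroup.mem_bot] at this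
        rw [Subgroup.mem_bot]
        exact congrArg Subtype.val this
      rw [cjg_pos_eq_neg D hD _ ((hmemN n).mp hn) h1]
    · intro b hb
      obtain ⟨u, hu, e⟩ := cjg_borel_neg D hD _ ((hmemB b).mp hb)
      refine ⟨⟨u, hUG hu⟩, Subgroup.mem_subgroupOf.mpr hu, ?_⟩
      rw [cjg_subgroupOf, cjg_subgroupOf, e]
    · intro i x hx
      rw [Subgroup.mem_subgroupOf] at hx ⊢
      have hpos : D.IsPosRoot (D.simple i) :=
        (isPosRoot_iff D _ hposOK _).mpr ⟨simple_pos D hD i i.2, simple_lt D hsim i i.2⟩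
      exact rootSubgroup_le_neg D _ (neg_of_pos D hD _ hpos) hx
    · intro i x hx
      rw [Subgroup.mem_subgroupOf] at hx
      obtain ⟨c, hc⟩ := mem_rootSubgroup D hD _ _ hx
      rcases xGL_neg_simple_mem D hD i.val i.2 c with rfl | ⟨b₁, hb₁, b₂, hb₂, e⟩
      · rw [xGL_zero' D hD] at hc
        have : x = 1 := Subtype.ext hc
        rw [this]; exact one_mem _
      · have e' : x = (⟨b₁, hBG hb₁⟩ : ↥(D.group F)) * nS D hD i.val * ⟨b₂, hBG hb₂⟩ := by
          apply Subtype.ext
          rw [hc, e]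
          rfl
        rw [e']
        apply mul_mem (mul_mem ?_ ?_) ?_
        · exact B_le_parabolic P _ ((hmemB _).mpr hb₁)
        · exact closure_le_parabolic P _ (Subgroup.subset_closure (Set.mem_singleton _))
        · exact B_le_parabolic P _ ((hmemB _).mpr hb₂)
    · intro i g hg
      have h1 : g ∈ (P.parabolic {nS D hD i.val} : Set ↥(D.group F)) := hg
      rw [parabolic_singleton (hsS i)] at h1
      rcases h1 with h1 | h1
      · exact Or.inl h1
      · rw [mem_dc] at h1
        obtain ⟨b, hb, b', hb', e⟩ := h1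
        rcases n_mul_borel D hD i.val i.2 _ ((hmemB b').mp hb') with ⟨b₁, hb₁, e₁⟩ | ⟨b₁, hb₁, t, e₁⟩
        · right; left
          refine ⟨b * ⟨b₁, hBG hb₁⟩, mul_mem hb ((hmemB _).mpr hb₁), ?_⟩
          rw [e, mul_assoc, mul_assoc]
          congr 1
          apply Subtype.ext
          exact e₁
        · right; right
          refine ⟨b * ⟨b₁, hBG hb₁⟩, mul_mem hb ((hmemB _).mpr hb₁), xS D hD (D.neg (D.simple i)) t,
            Subgroup.mem_subgroupOf.mpr (xGL_mem_rootSubgroup D hD _ _), ?_⟩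
          rw [e, mul_assoc, mul_assoc]
          congr 1
          apply Subtype.ext
          exact e₁
    · intro i
      rw [cjg_subgroupOf]
      show (cjg n₀ _).subgroupOf _ = _
      rw [(hstar i i.2).2]
    · intro j
      obtain ⟨i, hi, e⟩ := hsurj j.val j.2
      exact ⟨⟨i, hi⟩, Fin.ext e⟩
    · intro i j hij a ha b hb
      rw [Subgroup.mem_subgroupOf] at ha hb
      obtain ⟨t, ht⟩ := mem_rootSubgroup D hD _ _ ha
      obtain ⟨u, hu⟩ := mem_rootSubgroup D hD _ _ hb
      apply Subtype.ext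
      rw [Subgroup.coe_mul, Subgroup.coe_mul, ht, hu]
      exact xGL_comm_pm D hD i.val j.val i.2 j.2 (fun e => hij (Fin.ext e)) t u
    · intro i
      refine ⟨xS D hD (D.simple i) 1, Subgroup.mem_subgroupOf.mpr (xGL_mem_rootSubgroup D hD _ _),
        xS D hD (D.neg (D.simple i)) (-1), Subgroup.mem_subgroupOf.mpr (xGL_mem_rootSubgroup D hD _ _), ?_⟩
      intro e
      exact xGL_not_comm D hD i.val i.2 (congrArg Subtype.val e)
  exact H.main θ

open Cfsg.Agent.Helper40.SL2Hom in
/-- the rank one relations for `x_r`, `x_{-r}` in the Chevalley group -/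
theorem rel_xS (r : ℕ) (hr : r < D.nroots) : Rel (xS (F := F) D hD r) (xS D hD (D.neg r)) := by
  have hadd := Cfsg.Agent.Helper40.ChevAdd.addOK_of_mem hD
  apply rel_subtype
  have e : ∀ s : ℕ, (fun t : F => ((xS D hD s t : ↥(D.group F)) : GL D.Idx F)) =
      Cfsg.Agent.Helper40.ChevAdd.xGL D hadd F s := by
    intro s
    funext t
    apply Units.ext
    exact xGL_val D _ (triOK_of_mem D hD) s t
  rw [e, e]
  exact Cfsg.Agent.Helper40.SL2Chev.rel D hadd hD r hr

open Cfsg.Agent.Helper40.SL2Hom in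
/-- the element `h_r(t)` of the rank one relations is `h_r(t)` -/
theorem coe_h_xS (r : ℕ) (hr : r < D.nroots) (t : F) :
    ((h (xS (F := F) D hD r) (xS D hD (D.neg r)) t : ↥(D.group F)) : GL D.Idx F) = wordGL D F (D.hWord r t) := by
  rw [wordGL_hWord, ← nWordGL_one_inv D hD r hr, wordGL_nWord', wordGL_nWord']
  rfl

open Cfsg.Agent.Helper40.SL2Hom in
/-- the second step for the Chevalley groups -/
theorem chev_L2 : L2Hyp (F := F) (fun i k : Fin D.rank => D.cartan i (D.simple k))
    (fun i : Fin D.rank => xS D hD (D.simple i)) (fun i : Fin D.rank => xS D hD (D.neg (D.simple i))) := by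
  have hsim := simpleOK_of_mem D hD
  have hposOK := posOK_of_mem D hD
  refine
    { rel := fun i => rel_xS D hD _ (simple_lt D hsim i i.2)
      x_inj := ?_
      y_inj := ?_
      disj := ?_
      A_diag := fun i => cartan_simple_self D hD i i.2
      hx := ?_ }
  · intro i a b hab
    exact xGL_injective D hD _ (simple_lt D hsim i i.2) (congrArg Subtype.val hab)
  · intro i a b hab
    exact xGL_injective D hD _ (neg_lt D hD _ (simple_lt D hsim i i.2)) (congrArg Subtype.val hab)
  · intro i t u e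
    have e' : xGL D F (D.simple i) t = xGL D F (D.neg (D.simple i)) u := congrArg Subtype.val e
    have hpi := simple_lt D hsim i i.2
    have hpos : D.IsPosRoot (D.simple i) := (isPosRoot_iff D _ hposOK _).mpr ⟨simple_pos D hD i i.2, hpi⟩
    have hU : xGL D F (D.simple i) t ∈ D.posUnipotent F := xGL_mem_posUnipotent D hD _ ⟨simple_pos D hD i i.2, hpi⟩ _
    have hV : xGL D F (D.simple i) t ∈ D.negUnipotent F := by
      rw [e']
      exact rootSubgroup_le_neg D _ (neg_of_pos D hD _ hpos) (xGL_mem_rootSubgroup D hD _ _)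
    have h4 : xGL D F (D.simple i) t ∈ D.posUnipotent F ⊓ D.negUnipotent F := Subgroup.mem_inf.mpr ⟨hU, hV⟩
    rw [pos_inf_neg' D hD, Subgroup.mem_bot, xGL_eq_one_iff D hD _ hpi] at h4
    exact h4
  · intro i k t u ht
    have hpi := simple_lt D hsim i i.2
    have hpk := simple_lt D hsim k k.2
    apply Subtype.ext
    rw [Subgroup.coe_mul, Subgroup.coe_mul, Subgroup.coe_inv, coe_h_xS D hD _ hpi]
    have h32 := Cfsg.Agent.S1032.result (F := F) D hD i.val (D.simple k) i.2 hpk t ht u
    have e : wordGL D F (D.hWord (D.simple i) t) * xGL D F (D.simple k) u =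
        xGL D F (D.simple k) (t ^ D.cartan i (D.simple k) * u) * wordGL D F (D.hWord (D.simple i) t) := by
      apply Units.ext
      rw [Units.val_mul, Units.val_mul, hWordGL_val D hD, xGL_val D _ (triOK_of_mem D hD),
        xGL_val D _ (triOK_of_mem D hD)]
      exact h32
    show wordGL D F (D.hWord (D.simple i) t) * xGL D F (D.simple k) u * (wordGL D F (D.hWord (D.simple i) t))⁻¹ =
      xGL D F (D.simple k) (t ^ D.cartan i (D.simple k) * u)
    rw [e, mul_inv_cancel_right]

/-- steps one and two: after an inner automorphism, `θ` permutes the fundamental root subgroups and acts on them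
through field automorphisms and scalars -/
theorem chev_step12 [Fintype F] (p : ℕ) [Fact p.Prime] [CharP F p] (θ : ↥(D.group F) ≃* ↥(D.group F)) :
    ∃ (g₀ : ↥(D.group F)) (π : Equiv.Perm (Fin D.rank)) (c : Fin D.rank → Fˣ) (σ : Fin D.rank → F ≃+* F),
      (∀ (i : Fin D.rank) (t : F), (θ.trans (MulAut.conj g₀)) (xS D hD (D.simple i) t) =
        xS D hD (D.simple (π i)) ((c i : F) * σ i t)) ∧
      (∀ (i : Fin D.rank) (t : F), (θ.trans (MulAut.conj g₀)) (xS D hD (D.neg (D.simple i)) t) =
        xS D hD (D.neg (D.simple (π i))) ((((c i)⁻¹ : Fˣ) : F) * σ i t)) ∧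
      (∀ (i k : Fin D.rank) (t : F), t ≠ 0 →
        σ k t ^ (D.cartan i (D.simple k)) = σ i t ^ (D.cartan (π i) (D.simple (π k)))) ∧
      (∀ i k : Fin D.rank, i ≠ k → (D.bonds (π i) (π k) = 0 ↔ D.bonds i k = 0)) := by
  obtain ⟨g₀, π, hπ⟩ := chev_L1 D hD p θ
  set θ' := θ.trans (MulAut.conj g₀) with hθ'
  have hX : ∀ (i : Fin D.rank) (t : F), ∃ t', θ' (xS D hD (D.simple i) t) = xS D hD (D.simple (π i)) t' := by
    intro i t
    have h1 : θ' (xS D hD (D.simple i) t) ∈ im θ' ((D.rootSubgroup F (D.simple i)).subgroupOf (D.group F)) :=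
      apply_mem_im (Subgroup.mem_subgroupOf.mpr (xGL_mem_rootSubgroup D hD _ _))
    rw [(hπ i).1, Subgroup.mem_subgroupOf] at h1
    obtain ⟨t', ht'⟩ := mem_rootSubgroup D hD _ _ h1
    exact ⟨t', Subtype.ext ht'⟩
  have hY : ∀ (i : Fin D.rank) (t : F), ∃ t', θ' (xS D hD (D.neg (D.simple i)) t) =
      xS D hD (D.neg (D.simple (π i))) t' := by
    intro i t
    have h1 : θ' (xS D hD (D.neg (D.simple i)) t) ∈
        im θ' ((D.rootSubgroup F (D.neg (D.simple i))).subgroupOf (D.group F)) :=
      apply_mem_im (Subgroup.mem_subgroupOf.mpr (xGL_mem_rootSubgroup D hD _ _))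
    rw [(hπ i).2, Subgroup.mem_subgroupOf] at h1
    obtain ⟨t', ht'⟩ := mem_rootSubgroup D hD _ _ h1
    exact ⟨t', Subtype.ext ht'⟩
  obtain ⟨c, σ, h1, h2, h3⟩ := (chev_L2 (F := F) D hD).main θ' π hX hY
  refine ⟨g₀, π, c, σ, h1, h2, h3, ?_⟩
  intro i k hik
  have hπik : (π i).val ≠ (π k).val := fun e => hik (π.injective (Fin.ext e))
  have hik' : i.val ≠ k.val := fun e => hik (Fin.ext e)
  rw [← xGL_comm_pp_iff (F := F) D hD _ _ (π i).2 (π k).2 hπik, ← xGL_comm_pp_iff (F := F) D hD _ _ i.2 k.2 hik']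
  have hsurj : ∀ (j : Fin D.rank) (a : F), ∃ t, (c j : F) * σ j t = a := by
    intro j a
    refine ⟨(σ j).symm ((c j : F)⁻¹ * a), ?_⟩
    rw [RingEquiv.apply_symm_apply, mul_inv_cancel_left₀ (Units.ne_zero _)]
  constructor
  · intro hc t u
    have e := hc ((c i : F) * σ i t) ((c k : F) * σ k u)
    have e' : xS D hD (D.simple (π i)) ((c i : F) * σ i t) * xS D hD (D.simple (π k)) ((c k : F) * σ k u) =
        xS D hD (D.simple (π k)) ((c k : F) * σ k u) * xS D hD (D.simple (π i)) ((c i : F) * σ i t) :=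
      Subtype.ext e
    rw [← h1, ← h1, ← map_mul, ← map_mul] at e'
    exact congrArg Subtype.val (θ'.injective e')
  · intro hc a b
    obtain ⟨t, rfl⟩ := hsurj i a
    obtain ⟨u, rfl⟩ := hsurj k b
    have e : xS D hD (D.simple i) t * xS D hD (D.simple k) u = xS D hD (D.simple k) u * xS D hD (D.simple i) t :=
      Subtype.ext (hc t u)
    have e' := congrArg θ' e
    rw [map_mul, map_mul, h1, h1] at e'
    exact congrArg Subtype.val e'

end

end Cfsg.Agent.Helper18.Aut
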