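import Cfsg.Agent.Helper18.Aut.TypeAnalysis

/-!
Helper18: over the field with two elements, no automorphism of the Chevalley group of type `G₂` exchanges the
fundamental root subgroups of the short and the long root.
-/

set_option autoImplicit false
set_option maxRecDepth 100000

namespace Cfsg.Agent.Helper18.Aut

open Cfsg Cfsg.Lie Cfsg.Agent.Helper18

section

variable {F : Type*} [Field F]

/-- two root elements whose commutator formula has a single term, with nonzero coefficient, do not commute -/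
theorem xGL_not_comm_of_single (D : ChevalleyDatum)
    (hD : D ∈ [chevG2, chevB2, chevD4, chevF4, chevE6, chevE7, chevE8]) (r s k : ℕ) (C : ℤ)
    (hr : r < D.nroots) (hs : s < D.nroots) (hk : k < D.nroots) (h1 : s ≠ r) (h2 : s ≠ D.neg r)
    (hc : D.commTerms r s = [(k, C, 1, 1)]) (hC : (C : F) ≠ 0) :
    xGL D F r 1 * xGL D F s 1 ≠ xGL D F s 1 * xGL D F r 1 := by
  intro hcomm
  have h := commHyp (F := F) D hD r s hr hs h1 h2 1 1
  unfold ChevalleyDatum.commWord at h
  rw [hc] at h
  simp only [List.map_cons, List.map_nil, ChevalleyDatum.wordMat, List.prod_cons, List.prod_nil, mul_one] at h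
  have h' : xGL D F s 1 * xGL D F r 1 =
      xGL D F r 1 * xGL D F s 1 * xGL D F k ((C : F) * (-1) ^ 1 * 1 ^ 1) := by
    apply Units.ext
    simp only [Units.val_mul, xGL_val D _ (triOK_of_mem D hD)]
    simpa using h
  rw [hcomm] at h'
  have h3 : xGL D F k ((C : F) * (-1) ^ 1 * 1 ^ 1) = 1 := by
    have := h'.symm
    rwa [mul_eq_left] at this
  rw [xGL_eq_one_iff D hD k hk] at h3
  apply hC
  simpa using h3

theorem sign_eq_one (hF : ∀ t : F, t = 0 ∨ t = 1) (η : ℤ) (hη : η = 1 ∨ η = -1) : (η : F) = 1 := by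
  rcases hη with rfl | rfl
  · simp
  · rcases hF (-1) with h | h
    · exfalso
      have : (1 : F) = 0 := by
        have := congrArg (fun x : F => -x) h
        simpa using this
      exact one_ne_zero this
    · push_cast
      exact h

theorem three_ne_zero' (hF : ∀ t : F, t = 0 ∨ t = 1) : ((3 : ℤ) : F) ≠ 0 := by
  have h2 : (2 : F) = 0 := by
    rcases hF 2 with h | h
    · exact h
    · exfalso
      have : (1 : F) = 0 := by linear_combination h
      exact one_ne_zero this
  intro h3
  have : (1 : F) = 0 := by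
    have h3' : (3 : F) = 0 := by exact_mod_cast h3
    linear_combination h3' - h2
  exact one_ne_zero this

variable (D : ChevalleyDatum) (hD : D ∈ [chevG2, chevB2, chevD4, chevF4, chevE6, chevE7, chevE8])

theorem nS_eq (i : ℕ) :
    nS (F := F) D hD i =
      xS D hD (D.simple i) 1 * xS D hD (D.neg (D.simple i)) (-(1 : F)⁻¹) * xS D hD (D.simple i) 1 := by
  apply Subtype.ext
  show wordGL D F (D.nWord (D.simple i) (1 : F)) = _
  rw [wordGL_nWord']
  rfl

/-- an automorphism acting on the fundamental root elements through a permutation of the nodes maps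
`n_i` to `n_{π i}` -/
theorem map_nS (θ' : ↥(D.group F) ≃* ↥(D.group F)) (π : Equiv.Perm (Fin D.rank))
    (hx : ∀ (i : Fin D.rank) (t : F), θ' (xS D hD (D.simple i) t) = xS D hD (D.simple (π i)) t)
    (hy : ∀ (i : Fin D.rank) (t : F),
      θ' (xS D hD (D.neg (D.simple i)) t) = xS D hD (D.neg (D.simple (π i))) t)
    (i : Fin D.rank) : θ' (nS D hD i) = nS D hD (π i) := by
  rw [nS_eq, nS_eq, map_mul, map_mul, hx, hy]

/-- conjugation of root elements by `n_i`, over the field with two elements -/
theorem nS_mul_xS (hF : ∀ t : F, t = 0 ∨ t = 1) (i s : ℕ) (hi : i < D.rank) (hs : s < D.nroots) (t : F) :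
    nS D hD i * xS D hD s t = xS D hD (D.reflectRoot i s) t * nS D hD i := by
  obtain ⟨η, hη, h⟩ := nGL_conj_xGL D hD (nConjHyp (F := F) D hD) i s hi hs
  apply Subtype.ext
  have := h t
  rw [sign_eq_one hF η hη, one_mul] at this
  exact this

end

/-- the exclusion of the exchange of the two nodes for `G₂` over the field with two elements -/
theorem g2_f2_excl {F : Type*} [Field F] (hF : ∀ t : F, t = 0 ∨ t = 1)
    (θ' : ↥(chevG2.group F) ≃* ↥(chevG2.group F))
    (hx : ∀ (i : Fin chevG2.rank) (t : F), θ' (xS chevG2 hG2 (chevG2.simple i) t) =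
      xS chevG2 hG2 (chevG2.simple (Equiv.swap g20 g21 i)) t)
    (hy : ∀ (i : Fin chevG2.rank) (t : F), θ' (xS chevG2 hG2 (chevG2.neg (chevG2.simple i)) t) =
      xS chevG2 hG2 (chevG2.neg (chevG2.simple (Equiv.swap g20 g21 i))) t) : False := by
  have hn0 : θ' (nS chevG2 hG2 0) = nS chevG2 hG2 1 := map_nS chevG2 hG2 θ' _ hx hy g20
  have hn1 : θ' (nS chevG2 hG2 1) = nS chevG2 hG2 0 := map_nS chevG2 hG2 θ' _ hx hy g21
  have hxa : ∀ t : F, θ' (xS chevG2 hG2 7 t) = xS chevG2 hG2 6 t := fun t => hx g20 t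
  have hxb : ∀ t : F, θ' (xS chevG2 hG2 6 t) = xS chevG2 hG2 7 t := fun t => hx g21 t
  -- the root `a + b`
  have h8 : ∀ t : F, θ' (xS chevG2 hG2 8 t) = xS chevG2 hG2 10 t := by
    intro t
    have e1 := nS_mul_xS chevG2 hG2 hF 1 7 (by decide) (by decide) t
    have e2 := nS_mul_xS chevG2 hG2 hF 0 6 (by decide) (by decide) t
    have r1 : chevG2.reflectRoot 1 7 = 8 := by decide
    have r2 : chevG2.reflectRoot 0 6 = 10 := by decide
    rw [r1] at e1
    rw [r2] at e2
    have e3 := congrArg θ' e1
    rw [map_mul, map_mul, hn1, hxa, e2] at e3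
    exact (mul_right_cancel e3).symm
  -- the root `2a + b`
  have h9 : ∀ t : F, θ' (xS chevG2 hG2 9 t) = xS chevG2 hG2 11 t := by
    intro t
    have e1 := nS_mul_xS chevG2 hG2 hF 0 8 (by decide) (by decide) t
    have e2 := nS_mul_xS chevG2 hG2 hF 1 10 (by decide) (by decide) t
    have r1 : chevG2.reflectRoot 0 8 = 9 := by decide
    have r2 : chevG2.reflectRoot 1 10 = 11 := by decide
    rw [r1] at e1
    rw [r2] at e2
    have e3 := congrArg θ' e1
    rw [map_mul, map_mul, hn0, h8, e2] at e3
    exact (mul_right_cancel e3).symm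
  -- the images commute
  have hc : xGL chevG2 F 10 1 * xGL chevG2 F 11 1 = xGL chevG2 F 11 1 * xGL chevG2 F 10 1 :=
    xGL_comm_of_commTerms chevG2 hG2 10 11 (by decide) (by decide) (by decide) (by decide) (by decide) 1 1
  have hc' : xS chevG2 hG2 10 (1 : F) * xS chevG2 hG2 11 1 = xS chevG2 hG2 11 1 * xS chevG2 hG2 10 1 :=
    Subtype.ext hc
  rw [← h8, ← h9, ← map_mul, ← map_mul] at hc'
  have hc'' := θ'.injective hc'
  have hc3 : xGL chevG2 F 8 1 * xGL chevG2 F 9 1 = xGL chevG2 F 9 1 * xGL chevG2 F 8 1 :=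
    congrArg Subtype.val hc''
  exact xGL_not_comm_of_single chevG2 hG2 8 9 11 3 (by decide) (by decide) (by decide) (by decide) (by decide)
    (by decide) (three_ne_zero' hF) hc3

end Cfsg.Agent.Helper18.Aut
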