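import Cfsg.Agent.Helper18.Aut.ChevInst
import Cfsg.Agent.Helper36.ChevGraphD4E6
import Cfsg.Agent.S1081
import Cfsg.Agent.S1098
import Cfsg.Agent.S1099

/-!
Helper18: existence of the graph automorphisms of the Chevalley groups of the seven tabulated types, in the
form needed for the determination of all automorphisms.
-/

set_option autoImplicit false
set_option maxRecDepth 100000

namespace Cfsg.Agent.Helper18.Aut

open Cfsg Cfsg.Lie Cfsg.Agent.Helper18 Cfsg.Agent.Helper36 Cfsg.Agent.Helper40.GraphAut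

section

variable {F : Type*} [Field F] (D : ChevalleyDatum)
  (hD : D ∈ [chevG2, chevB2, chevD4, chevF4, chevE6, chevE7, chevE8])

/-- there is a graph automorphism for the permutation `π` of the nodes -/
def GraphEx (F : Type*) [Field F] (D : ChevalleyDatum)
    (hD : D ∈ [chevG2, chevB2, chevD4, chevF4, chevE6, chevE7, chevE8]) (π : Equiv.Perm (Fin D.rank)) : Prop :=
  ∃ g : ↥(D.group F) ≃* ↥(D.group F), ∀ (i : Fin D.rank) (t : F),
    g (xS D hD (D.simple i) t) = xS D hD (D.simple (π i)) (t ^ D.graphExp (ringChar F) i (π i)) ∧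
    g (xS D hD (D.neg (D.simple i)) t) = xS D hD (D.neg (D.simple (π i))) (t ^ D.graphExp (ringChar F) i (π i))

theorem graphEx_of (π : Equiv.Perm (Fin D.rank)) (ρ e : ℕ → ℕ) (α : ↥(D.group F) ≃* ↥(D.group F))
    (hα : ∀ (g : ↥(D.group F)) (i : ℕ) (t : F), i < D.rank →
      (((g : GL D.Idx F) : Matrix D.Idx D.Idx F) = D.x F (D.simple i) t →
        ((α g : GL D.Idx F) : Matrix D.Idx D.Idx F) = D.x F (D.simple (ρ i)) (t ^ e i)) ∧
      (((g : GL D.Idx F) : Matrix D.Idx D.Idx F) = D.x F (D.neg (D.simple i)) t →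
        ((α g : GL D.Idx F) : Matrix D.Idx D.Idx F) = D.x F (D.neg (D.simple (ρ i))) (t ^ e i)))
    (hρ : ∀ i : Fin D.rank, ρ i = (π i).val)
    (he : ∀ i : Fin D.rank, e i = D.graphExp (ringChar F) i (π i)) :
    GraphEx F D hD π := by
  refine ⟨α, fun i t => ⟨?_, ?_⟩⟩
  · apply Subtype.ext
    apply Units.ext
    have h := (hα (xS D hD (D.simple i) t) i t i.2).1 (xGL_val D _ (triOK_of_mem D hD) _ _)
    rw [h, hρ, he]
    exact (xGL_val D _ (triOK_of_mem D hD) _ _).symm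
  · apply Subtype.ext
    apply Units.ext
    have h := (hα (xS D hD (D.neg (D.simple i)) t) i t i.2).2 (xGL_val D _ (triOK_of_mem D hD) _ _)
    rw [h, hρ, he]
    exact (xGL_val D _ (triOK_of_mem D hD) _ _).symm

theorem graphExp_self (c i : ℕ) : D.graphExp c i i = 1 := by
  unfold ChevalleyDatum.graphExp
  cases D.isLong (D.simple i) <;> simp

theorem graphExp_of_notLong (h : ∀ j < D.rank, D.isLong (D.simple j) = false) (c i j : ℕ) (hj : j < D.rank) :
    D.graphExp c i j = 1 := by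
  unfold ChevalleyDatum.graphExp
  rw [h j hj]
  simp

/-- the identity is a graph automorphism for the identity permutation -/
theorem graphEx_one : GraphEx F D hD 1 := by
  refine ⟨MulEquiv.refl _, fun i t => ?_⟩
  rw [Equiv.Perm.one_apply, graphExp_self, pow_one]
  exact ⟨rfl, rfl⟩

end

theorem notLong_D4 : ∀ j < chevD4.rank, chevD4.isLong (chevD4.simple j) = false := by decide +kernel
theorem notLong_E6 : ∀ j < chevE6.rank, chevE6.isLong (chevE6.simple j) = false := by decide +kernel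
theorem notLong_E7 : ∀ j < chevE7.rank, chevE7.isLong (chevE7.simple j) = false := by decide +kernel
theorem notLong_E8 : ∀ j < chevE8.rank, chevE8.isLong (chevE8.simple j) = false := by decide +kernel

/-! ### The transpositions of the outer nodes of `D₄` -/

def rhoA : ℕ → ℕ := fun i => ([0, 1, 3, 2] : List ℕ).getD i 0
def piA : ℕ → ℕ := fun i => ([0, 1, 3, 2, 4, 5, 6, 8, 7, 9, 11, 10, 13, 12, 14, 16, 15, 17, 18, 19, 21, 20, 22, 23] : List ℕ).getD i 0
def epsA : ℕ → ℤ := fun i => ([1, 1, 1, 1, 1, 1, 1, 1, 1, 1, 1, 1, 1, 1, 1, 1, 1, 1, 1, 1, 1, 1, 1, 1] : List ℤ).getD i 0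
theorem allOKA : allOK chevD4 rhoA rhoA piA piA epsA = true := by decide +kernel

def rhoB : ℕ → ℕ := fun i => ([2, 1, 0, 3] : List ℕ).getD i 0
def piB : ℕ → ℕ := fun i => ([0, 1, 2, 6, 7, 10, 3, 4, 8, 9, 5, 11, 12, 18, 14, 15, 19, 20, 13, 16, 17, 21, 22, 23] : List ℕ).getD i 0
def epsB : ℕ → ℤ := fun i => ([1, 1, 1, -1, -1, 1, -1, -1, 1, 1, 1, 1, 1, 1, 1, 1, -1, -1, 1, -1, -1, 1, 1, 1] : List ℤ).getD i 0
theorem allOKB : allOK chevD4 rhoB rhoB piB piB epsB = true := by decide +kernel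

def rhoC : ℕ → ℕ := fun i => ([3, 1, 2, 0] : List ℕ).getD i 0
def piC : ℕ → ℕ := fun i => ([0, 1, 6, 3, 8, 11, 2, 7, 4, 9, 10, 5, 18, 13, 14, 19, 16, 21, 12, 15, 20, 17, 22, 23] : List ℕ).getD i 0
def epsC : ℕ → ℤ := fun i => ([1, 1, -1, 1, -1, 1, -1, 1, -1, 1, 1, 1, 1, 1, 1, -1, 1, -1, 1, -1, 1, -1, 1, 1] : List ℤ).getD i 0
theorem allOKC : allOK chevD4 rhoC rhoC piC piC epsC = true := by decide +kernel

section

variable {F : Type*} [Field F]

theorem hD4 : chevD4 ∈ [chevG2, chevB2, chevD4, chevF4, chevE6, chevE7, chevE8] := by simp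
theorem hE6 : chevE6 ∈ [chevG2, chevB2, chevD4, chevF4, chevE6, chevE7, chevE8] := by simp
theorem hE7 : chevE7 ∈ [chevG2, chevB2, chevD4, chevF4, chevE6, chevE7, chevE8] := by simp
theorem hE8 : chevE8 ∈ [chevG2, chevB2, chevD4, chevF4, chevE6, chevE7, chevE8] := by simp
theorem hG2 : chevG2 ∈ [chevG2, chevB2, chevD4, chevF4, chevE6, chevE7, chevE8] := by simp
theorem hB2 : chevB2 ∈ [chevG2, chevB2, chevD4, chevF4, chevE6, chevE7, chevE8] := by simp
theorem hF4 : chevF4 ∈ [chevG2, chevB2, chevD4, chevF4, chevE6, chevE7, chevE8] := by simp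

theorem graphEx_of_one_exp (D : ChevalleyDatum)
    (hD : D ∈ [chevG2, chevB2, chevD4, chevF4, chevE6, chevE7, chevE8])
    (hnl : ∀ j < D.rank, D.isLong (D.simple j) = false)
    (π : Equiv.Perm (Fin D.rank)) (ρ : ℕ → ℕ)
    (h : ∃ α : ↥(D.group F) ≃* ↥(D.group F), ∀ (g : ↥(D.group F)) (i : ℕ) (t : F), i < D.rank →
      (((g : GL D.Idx F) : Matrix D.Idx D.Idx F) = D.x F (D.simple i) t →
        ((α g : GL D.Idx F) : Matrix D.Idx D.Idx F) = D.x F (D.simple (ρ i)) t) ∧
      (((g : GL D.Idx F) : Matrix D.Idx D.Idx F) = D.x F (D.neg (D.simple i)) t →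
        ((α g : GL D.Idx F) : Matrix D.Idx D.Idx F) = D.x F (D.neg (D.simple (ρ i))) t))
    (hρ : ∀ i : Fin D.rank, ρ i = (π i).val) : GraphEx F D hD π := by
  obtain ⟨α, hα⟩ := h
  refine graphEx_of D hD π ρ (fun _ => 1) α ?_ hρ ?_
  · intro g i t hi
    simp only [pow_one]
    exact hα g i t hi
  · intro i
    exact (graphExp_of_notLong D hnl _ _ _ (π i).2).symm

/-- graph automorphisms of `D₄` -/
theorem graphEx_D4 (π : Equiv.Perm (Fin chevD4.rank))
    (hπ : π = 1 ∨ π = Equiv.swap d40 d42 ∨ π = Equiv.swap d40 d43 ∨ π = Equiv.swap d42 d43 ∨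
      π = Equiv.swap d40 d42 * Equiv.swap d42 d43 ∨ π = Equiv.swap d42 d43 * Equiv.swap d40 d42) :
    GraphEx F chevD4 hD4 π := by
  rcases hπ with rfl | rfl | rfl | rfl | rfl | rfl
  · exact graphEx_one chevD4 hD4
  · exact graphEx_of_one_exp chevD4 hD4 notLong_D4 _ rhoB (exists_graph_aut chevD4 rhoB rhoB piB piB epsB allOKB)
      (by decide)
  · exact graphEx_of_one_exp chevD4 hD4 notLong_D4 _ rhoC (exists_graph_aut chevD4 rhoC rhoC piC piC epsC allOKC)
      (by decide)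
  · exact graphEx_of_one_exp chevD4 hD4 notLong_D4 _ rhoA (exists_graph_aut chevD4 rhoA rhoA piA piA epsA allOKA)
      (by decide)
  · exact graphEx_of_one_exp chevD4 hD4 notLong_D4 _ Cfsg.Agent.S1081.rho1
      (exists_graph_aut chevD4 _ _ _ _ _ Cfsg.Agent.S1081.allOK1) (by decide)
  · exact graphEx_of_one_exp chevD4 hD4 notLong_D4 _ Cfsg.Agent.S1081.rho2
      (exists_graph_aut chevD4 _ _ _ _ _ Cfsg.Agent.S1081.allOK2) (by decide)

/-- graph automorphisms of `E₆` -/
theorem graphEx_E6 (π : Equiv.Perm (Fin chevE6.rank))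
    (hπ : π = 1 ∨ π = Equiv.swap e60 e65 * Equiv.swap e62 e64) :
    GraphEx F chevE6 hE6 π := by
  rcases hπ with rfl | rfl
  · exact graphEx_one chevE6 hE6
  · exact graphEx_of_one_exp chevE6 hE6 notLong_E6 _ Cfsg.Agent.S1081.rho0
      (exists_graph_aut chevE6 _ _ _ _ _ Cfsg.Agent.S1081.allOK0) (by decide)

/-! ### The types with two root lengths -/

def b20 : Fin chevB2.rank := ⟨0, by decide⟩
def b21 : Fin chevB2.rank := ⟨1, by decide⟩
def g20 : Fin chevG2.rank := ⟨0, by decide⟩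
def g21 : Fin chevG2.rank := ⟨1, by decide⟩
def f40 : Fin chevF4.rank := ⟨0, by decide⟩
def f41 : Fin chevF4.rank := ⟨1, by decide⟩
def f42 : Fin chevF4.rank := ⟨2, by decide⟩
def f43 : Fin chevF4.rank := ⟨3, by decide⟩

theorem expB2 : ∀ i : Fin chevB2.rank,
    (([(1, 2), (0, 1)] : List (ℕ × ℕ)).getD i (0, 1)).2 = chevB2.graphExp 2 i (Equiv.swap b20 b21 i) := by
  decide +kernel

theorem expF4 : ∀ i : Fin chevF4.rank,
    (([(3, 2), (2, 2), (1, 1), (0, 1)] : List (ℕ × ℕ)).getD i (0, 1)).2 =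
      chevF4.graphExp 2 i ((Equiv.swap f40 f43 * Equiv.swap f41 f42) i) := by
  decide +kernel

theorem expG2 : ∀ i : Fin chevG2.rank,
    (([3, 1] : List ℕ).getD i 1) = chevG2.graphExp 3 i (Equiv.swap g20 g21 i) := by
  decide +kernel

theorem graphEx_B2 [Finite F] (h2 : ringChar F = 2) : GraphEx F chevB2 hB2 (Equiv.swap b20 b21) := by
  have : CharP F 2 := by rw [← h2]; exact ringChar.charP F
  have hperf : ∀ x : F, ∃ y : F, y ^ 2 = x := by
    intro x
    obtain ⟨y, hy⟩ := FiniteField.isSquare_of_char_two (ringChar.eq F 2 ▸ h2 ▸ rfl) x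
    exact ⟨y, by rw [hy, sq]⟩
  obtain ⟨α, hα⟩ := Cfsg.Agent.S1098.result (K := F) hperf (chevB2, [(1, 2), (0, 1)]) (by simp)
  refine graphEx_of chevB2 hB2 _ (fun i => (([(1, 2), (0, 1)] : List (ℕ × ℕ)).getD i (0, 1)).1)
    (fun i => (([(1, 2), (0, 1)] : List (ℕ × ℕ)).getD i (0, 1)).2) α hα (by decide) ?_
  intro i
  rw [h2]
  exact expB2 i

theorem graphEx_F4 [Finite F] (h2 : ringChar F = 2) :
    GraphEx F chevF4 hF4 (Equiv.swap f40 f43 * Equiv.swap f41 f42) := by
  have : CharP F 2 := by rw [← h2]; exact ringChar.charP F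
  have hperf : ∀ x : F, ∃ y : F, y ^ 2 = x := by
    intro x
    obtain ⟨y, hy⟩ := FiniteField.isSquare_of_char_two (ringChar.eq F 2 ▸ h2 ▸ rfl) x
    exact ⟨y, by rw [hy, sq]⟩
  obtain ⟨α, hα⟩ := Cfsg.Agent.S1098.result (K := F) hperf (chevF4, [(3, 2), (2, 2), (1, 1), (0, 1)]) (by simp)
  refine graphEx_of chevF4 hF4 _ (fun i => (([(3, 2), (2, 2), (1, 1), (0, 1)] : List (ℕ × ℕ)).getD i (0, 1)).1)
    (fun i => (([(3, 2), (2, 2), (1, 1), (0, 1)] : List (ℕ × ℕ)).getD i (0, 1)).2) α hα (by decide) ?_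
  intro i
  rw [h2]
  exact expF4 i

theorem graphEx_G2 [Finite F] (h3 : ringChar F = 3) : GraphEx F chevG2 hG2 (Equiv.swap g20 g21) := by
  have : CharP F 3 := by rw [← h3]; exact ringChar.charP F
  have hperf : ∀ x : F, ∃ y : F, y ^ 3 = x := by
    intro x
    have : ExpChar F 3 := ExpChar.prime Nat.prime_three
    obtain ⟨y, hy⟩ := surjective_frobenius F 3 x
    exact ⟨y, hy⟩
  obtain ⟨α, hα⟩ := Cfsg.Agent.S1099.result (K := F) hperf
  refine graphEx_of chevG2 hG2 _ (fun i => ([1, 0] : List ℕ).getD i 0) (fun i => ([3, 1] : List ℕ).getD i 1) α ?_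
    (by decide) ?_
  · intro g i t hi
    have hi' : i = 0 ∨ i = 1 := by
      have : i < 2 := hi
      omega
    rcases hi' with rfl | rfl
    · exact ⟨(hα g t).1, (hα g t).2.2.1⟩
    · constructor
      · intro hg
        have h := (hα g t).2.1 hg
        rw [h]
        simp only [List.getD_cons_succ, List.getD_cons_zero, pow_one]
        rfl
      · intro hg
        have h := (hα g t).2.2.2 hg
        rw [h]
        simp only [List.getD_cons_succ, List.getD_cons_zero, pow_one]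
        rfl
  · intro i
    rw [h3]
    exact expG2 i

end

end Cfsg.Agent.Helper18.Aut
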