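import Cfsg.Agent.Helper18.Aut.OutLib
import Cfsg.Agent.Helper18.Aut.ChevHyp

/-!
Helper18: in type `D₄`, a graph automorphism for a nontrivial symmetry of the diagram is not the product of a
diagonal, a field and an inner automorphism.
-/

set_option autoImplicit false
set_option maxRecDepth 100000

namespace Cfsg.Agent.Helper18.Aut

open Cfsg Cfsg.Lie Cfsg.Agent.Helper18 Cfsg.Agent.Helper36 Cfsg.Agent.Helper36.ChevAut Cfsg.Agent.S2156

section

variable {F : Type*} [Field F] (D : ChevalleyDatum)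
  (hD : D ∈ [chevG2, chevB2, chevD4, chevF4, chevE6, chevE7, chevE8])

include hD in
/-- root elements of distinct fundamental roots are distinct -/
theorem xGL_simple_inj (i j : ℕ) (hi : i < D.rank) (hj : j < D.rank) (hij : i ≠ j) (t u : F)
    (h : xGL D F (D.simple i) t = xGL D F (D.simple j) u) : u = 0 := by
  have hsim := simpleOK_of_mem D hD
  have hpi := simple_lt D hsim i hi
  have hpj := simple_lt D hsim j hj
  obtain ⟨-, -, -, a4, -⟩ := fund_spec D hD i j hi hj hij
  obtain ⟨η1, hη1, hc1⟩ := nGL_conj_xGL D hD (nConjHyp (F := F) D hD) i _ hi hpi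
  obtain ⟨η2, hη2, hc2⟩ := nGL_conj_xGL D hD (nConjHyp (F := F) D hD) i _ hi hpj
  rw [reflectRoot_simple D hD i] at hc1
  have h1 := hc1 t
  rw [h, hc2 u] at h1
  have h2 : xGL D F (D.reflectRoot i (D.simple j)) ((η2 : F) * u) = xGL D F (D.neg (D.simple i)) ((η1 : F) * t) :=
    mul_right_cancel h1
  have hspos := reflectRoot_pos D hD i (D.simple j) hi ⟨simple_pos D hD j hj, hpj⟩ a4
  have hU : xGL D F (D.reflectRoot i (D.simple j)) ((η2 : F) * u) ∈ D.posUnipotent F :=
    xGL_mem_posUnipotent D hD _ ⟨hspos.1, hspos.2.1⟩ _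
  have hpos : D.IsPosRoot (D.simple i) :=
    (isPosRoot_iff D _ (posOK_of_mem D hD) _).mpr ⟨simple_pos D hD i hi, hpi⟩
  have hV : xGL D F (D.reflectRoot i (D.simple j)) ((η2 : F) * u) ∈ D.negUnipotent F := by
    rw [h2]
    exact rootSubgroup_le_neg D _ (neg_of_pos D hD _ hpos) (xGL_mem_rootSubgroup D hD _ _)
  have h3 : xGL D F (D.reflectRoot i (D.simple j)) ((η2 : F) * u) ∈ D.posUnipotent F ⊓ D.negUnipotent F :=
    Subgroup.mem_inf.mpr ⟨hU, hV⟩
  rw [pos_inf_neg' D hD, Subgroup.mem_bot, xGL_eq_one_iff D hD _ hspos.2.1] at h3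
  rcases hη2 with rfl | rfl
  · simpa using h3
  · simpa using h3

include hD in
/-- conjugation maps a subgroup generated by root subgroups into another one, elementwise version -/
theorem cjg_closure_le' (n : GL D.Idx F) (R R' : ℕ → Prop)
    (h : ∀ r, R r → ∀ t : F, ∃ (r' : ℕ) (t' : F), R' r' ∧ n * xGL D F r t * n⁻¹ = xGL D F r' t') :
    cjg n (Subgroup.closure {g : GL D.Idx F | ∃ (r : ℕ) (t : F), R r ∧ (g : Matrix D.Idx D.Idx F) = D.x F r t}) ≤
      Subgroup.closure {g : GL D.Idx F | ∃ (r : ℕ) (t : F), R' r ∧ (g : Matrix D.Idx D.Idx F) = D.x F r t} := by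
  unfold cjg
  rw [Subgroup.map_le_iff_le_comap, Subgroup.closure_le]
  rintro g ⟨r, t, hr, hg⟩
  have e : g = xGL D F r t := Units.ext (hg.trans (xGL_val D _ (triOK_of_mem D hD) r t).symm)
  obtain ⟨r', t', hr', e'⟩ := h r hr t
  have hm : n * g * n⁻¹ ∈
      Subgroup.closure {g : GL D.Idx F | ∃ (r : ℕ) (t : F), R' r ∧ (g : Matrix D.Idx D.Idx F) = D.x F r t} := by
    rw [e, e']
    exact Subgroup.subset_closure ⟨r', t', hr', xGL_val D _ (triOK_of_mem D hD) r' t'⟩
  exact hm

/-- a diagonal automorphism on all root elements -/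
theorem diag_all_roots (d : MulAut ↥(D.group F)) (hd : d ∈ diagSub D hD) :
    ∃ χ : ℕ → Fˣ, ∀ r < D.nroots, ∀ t : F, d (xS D hD r t) = xS D hD r ((χ r : F) * t) := by
  obtain ⟨χ, hχ, h⟩ := (mem_diagSub D hD d).mp hd
  refine ⟨χ, fun r hr t => ?_⟩
  apply eq_xS
  rw [h, coe_xS]
  exact Cfsg.Agent.S2157.result D hD χ hχ r hr t

/-- a field automorphism on all root elements -/
theorem field_all_roots (f : MulAut ↥(D.group F)) (hf : f ∈ fieldSub D hD) :
    ∃ σ : F ≃+* F, ∀ r < D.nroots, ∀ t : F, f (xS D hD r t) = xS D hD r (σ t) := by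
  obtain ⟨σ, h⟩ := (mem_fieldSub D hD f).mp hf
  refine ⟨σ, fun r hr t => ?_⟩
  apply eq_xS
  exact h _ r t hr (coe_xS D hD r t)

end

theorem posPres_D4 : ∀ π : Equiv.Perm (Fin chevD4.rank), chevD4.IsDiagramSymmetry π →
    ∀ r < chevD4.nroots, (chevD4.IsPosRoot r → chevD4.IsPosRoot (chevD4.permRoot π r)) ∧
      (chevD4.IsNegRoot r → chevD4.IsNegRoot (chevD4.permRoot π r)) := by
  intro π hπ
  rcases symD4 π hπ with rfl | rfl | rfl | rfl | rfl | rfl <;> decide +kernel

/-- in type `D₄`, a graph automorphism which is a product of a diagonal, a field and an inner automorphism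
belongs to the trivial symmetry -/
theorem d4_graph_class {F : Type*} [Field F] [Finite F] (g d f : MulAut ↥(chevD4.group F))
    (π : Equiv.Perm (Fin chevD4.rank)) (hπ : chevD4.IsDiagramSymmetry π) (hg : GraphLike chevD4 hD4 g π)
    (hd : d ∈ diagSub chevD4 hD4) (hf : f ∈ fieldSub chevD4 hD4) (x : ↥(chevD4.group F))
    (h : g = d * f * MulAut.conj x) : π = 1 := by
  have hsim := simpleOK_of_mem chevD4 hD4
  obtain ⟨χ, hχ⟩ := diag_all_roots chevD4 hD4 d hd
  obtain ⟨σ, hσ⟩ := field_all_roots chevD4 hD4 f hf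
  have hcx : MulAut.conj x = f⁻¹ * d⁻¹ * g := by
    rw [h]
    group
  have hdinv : ∀ r < chevD4.nroots, ∀ t : F,
      d⁻¹ (xS chevD4 hD4 r t) = xS chevD4 hD4 r ((((χ r)⁻¹ : Fˣ) : F) * t) := by
    intro r hr t
    rw [MulAut.inv_apply, MulEquiv.symm_apply_eq, hχ r hr, ← mul_assoc, ← Units.val_mul, mul_inv_cancel,
      Units.val_one, one_mul]
  have hfinv : ∀ r < chevD4.nroots, ∀ t : F, f⁻¹ (xS chevD4 hD4 r t) = xS chevD4 hD4 r (σ.symm t) := by
    intro r hr t
    rw [MulAut.inv_apply, MulEquiv.symm_apply_eq, hσ r hr, RingEquiv.apply_symm_apply]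
  -- the graph automorphism on all root elements
  have hgall : ∀ r < chevD4.nroots, ∃ ε : F, ∀ t : F,
      g (xS chevD4 hD4 r t) = xS chevD4 hD4 (chevD4.permRoot π r) (ε * t) := by
    intro r hr
    have hφ : ∀ (γ : ↥(chevD4.group F)) (i : Fin chevD4.rank) (t : F),
        (((γ : GL chevD4.Idx F) : Matrix chevD4.Idx chevD4.Idx F) = chevD4.x F (chevD4.simple i) t →
          ((g γ : GL chevD4.Idx F) : Matrix chevD4.Idx chevD4.Idx F) = chevD4.x F (chevD4.simple (π i)) t) ∧
        (((γ : GL chevD4.Idx F) : Matrix chevD4.Idx chevD4.Idx F) = chevD4.x F (chevD4.neg (chevD4.simple i)) t →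
          ((g γ : GL chevD4.Idx F) : Matrix chevD4.Idx chevD4.Idx F) =
            chevD4.x F (chevD4.neg (chevD4.simple (π i))) t) := by
      intro γ i t
      have he : chevD4.graphExp (ringChar F) i (π i) = 1 :=
        graphExp_of_notLong chevD4 notLong_D4 _ _ _ (π i).2
      constructor
      · intro hγ
        rw [eq_xS chevD4 hD4 γ _ _ hγ, (hg i t).1, he, pow_one]
        exact coe_xS chevD4 hD4 _ _
      · intro hγ
        rw [eq_xS chevD4 hD4 γ _ _ hγ, (hg i t).2, he, pow_one]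
        exact coe_xS chevD4 hD4 _ _
    obtain ⟨ε, -, hε⟩ := graph_signs (F := F) chevD4 (by simp) π hπ g hφ r hr
    refine ⟨ε, fun t => ?_⟩
    apply eq_xS
    exact hε _ t (coe_xS chevD4 hD4 r t)
  have hP := posPres_D4 π hπ
  have hlt : ∀ r < chevD4.nroots, chevD4.permRoot π r < chevD4.nroots := by
    intro r hr
    rcases pos_or_neg chevD4 hD4 r hr with hp | hn
    · exact ((hP r hr).1 hp).1
    · exact ((hP r hr).2 hn).1
  -- conjugation by `x` on all root elements
  have hconj : ∀ r < chevD4.nroots, ∀ t : F, ∃ t' : F,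
      (x : GL chevD4.Idx F) * xGL chevD4 F r t * (x : GL chevD4.Idx F)⁻¹ = xGL chevD4 F (chevD4.permRoot π r) t' := by
    intro r hr t
    obtain ⟨ε, hε⟩ := hgall r hr
    have e : MulAut.conj x (xS chevD4 hD4 r t) = (f⁻¹ * d⁻¹ * g) (xS chevD4 hD4 r t) := by rw [hcx]
    rw [MulAut.conj_apply, MulAut.mul_apply, MulAut.mul_apply, hε, hdinv _ (hlt r hr), hfinv _ (hlt r hr)] at e
    exact ⟨_, congrArg Subtype.val e⟩
  -- `x` normalises `U` and `V`
  have hU : cjg (x : GL chevD4.Idx F) (chevD4.posUnipotent F) = chevD4.posUnipotent F := by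
    apply Subgroup.eq_of_le_of_card_ge
    · apply cjg_closure_le' chevD4 hD4 _ chevD4.IsPosRoot chevD4.IsPosRoot
      intro r hr t
      obtain ⟨t', ht'⟩ := hconj r hr.1 t
      exact ⟨_, t', (hP r hr.1).1 hr, ht'⟩
    · rw [card_cjg]
  have hV : cjg (x : GL chevD4.Idx F) (chevD4.negUnipotent F) = chevD4.negUnipotent F := by
    apply Subgroup.eq_of_le_of_card_ge
    · apply cjg_closure_le' chevD4 hD4 _ chevD4.IsNegRoot chevD4.IsNegRoot
      intro r hr t
      obtain ⟨t', ht'⟩ := hconj r hr.1 t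
      exact ⟨_, t', (hP r hr.1).2 hr, ht'⟩
    · rw [card_cjg]
  have hxH : (x : GL chevD4.Idx F) ∈ chevD4.diagonalSubgroup F := by
    apply mem_diag_of_normalizes chevD4 hD4 x
    · rw [cjg_subgroupOf, hU]
    · rw [cjg_subgroupOf, hV]
  obtain ⟨ψ, -, -, hψ⟩ := diagonalSubgroup_char chevD4 hD4 _ hxH
  -- the fundamental root subgroups are fixed
  ext i : 1
  rw [Equiv.Perm.one_apply]
  by_contra hne
  have hne' : (π i).val ≠ i.val := fun e => hne (Fin.ext e)
  have hpi := simple_lt chevD4 hsim i i.2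
  have hπi := simple_lt chevD4 hsim _ (π i).2
  have he : chevD4.graphExp (ringChar F) i (π i) = 1 := graphExp_of_notLong chevD4 notLong_D4 _ _ _ (π i).2
  have e : MulAut.conj x (xS chevD4 hD4 (chevD4.simple i) 1) =
      (f⁻¹ * d⁻¹ * g) (xS chevD4 hD4 (chevD4.simple i) 1) := by rw [hcx]
  rw [MulAut.conj_apply, MulAut.mul_apply, MulAut.mul_apply, (hg i 1).1, he, pow_one, hdinv _ hπi, hfinv _ hπi,
    mul_one] at e
  have e' := congrArg Subtype.val e
  have e2 := hψ _ hpi (1 : F)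
  have e3 : (x : GL chevD4.Idx F) * xGL chevD4 F (chevD4.simple i) 1 * (x : GL chevD4.Idx F)⁻¹ =
      xGL chevD4 F (chevD4.simple i) (ψ (chevD4.simple i) * 1) := by
    rw [e2, mul_inv_cancel_right]
  have e4 : xGL chevD4 F (chevD4.simple i) (ψ (chevD4.simple i) * 1) =
      xGL chevD4 F (chevD4.simple (π i)) (σ.symm (((χ (chevD4.simple (π i)))⁻¹ : Fˣ) : F)) := by
    rw [← e3]
    exact e'
  have h0 := xGL_simple_inj chevD4 hD4 i.val (π i).val i.2 (π i).2 (fun e => hne' e.symm) _ _ e4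
  have h1 : (((χ (chevD4.simple (π i)))⁻¹ : Fˣ) : F) = 0 := by
    have := congrArg σ h0
    rwa [RingEquiv.apply_symm_apply, map_zero] at this
  exact Units.ne_zero _ h1

end Cfsg.Agent.Helper18.Aut
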