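import Cfsg.Agent.S2156

/-!
Helper18: diagonal, field and graph automorphisms of the Chevalley groups of the seven tabulated types, described
through their action on the fundamental root elements; the subgroups of diagonal and of field automorphisms of
`MulAut G` and their conjugation relations.
-/

set_option autoImplicit false

namespace Cfsg.Agent.Helper18.Aut

open Cfsg Cfsg.Lie Cfsg.Agent.Helper18 Cfsg.Agent.Helper36.ChevAut Cfsg.Agent.S2156

section

variable {F : Type*} [Field F] (D : ChevalleyDatum)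
  (hD : D ∈ [chevG2, chevB2, chevD4, chevF4, chevE6, chevE7, chevE8])

/-- automorphisms agreeing on the fundamental root elements are equal -/
theorem aut_ext (φ ψ : ↥(D.group F) ≃* ↥(D.group F))
    (h : ∀ (i : Fin D.rank) (t : F), φ (xS D hD (D.simple i) t) = ψ (xS D hD (D.simple i) t) ∧
      φ (xS D hD (D.neg (D.simple i)) t) = ψ (xS D hD (D.neg (D.simple i)) t)) : φ = ψ := by
  have hE : ((φ : ↥(D.group F) →* ↥(D.group F))).eqLocus (ψ : ↥(D.group F) →* ↥(D.group F)) = ⊤ := by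
    apply Cfsg.Agent.Helper36.fund_generate D hD
    intro i hi t γ hγ
    show φ γ = ψ γ
    rcases hγ with hγ | hγ
    · rw [eq_xS D hD γ _ _ hγ]
      exact (h ⟨i, hi⟩ t).1
    · rw [eq_xS D hD γ _ _ hγ]
      exact (h ⟨i, hi⟩ t).2
  apply MulEquiv.ext
  intro y
  have hy : y ∈ ((φ : ↥(D.group F) →* ↥(D.group F))).eqLocus (ψ : ↥(D.group F) →* ↥(D.group F)) := by
    rw [hE]
    exact Subgroup.mem_top y
  exact hy

/-- the automorphism acts on the fundamental root elements as a diagonal automorphism -/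
def DiagLike (φ : ↥(D.group F) ≃* ↥(D.group F)) : Prop :=
  ∃ c : Fin D.rank → Fˣ, ∀ (i : Fin D.rank) (t : F),
    φ (xS D hD (D.simple i) t) = xS D hD (D.simple i) ((c i : F) * t) ∧
    φ (xS D hD (D.neg (D.simple i)) t) = xS D hD (D.neg (D.simple i)) ((((c i)⁻¹ : Fˣ) : F) * t)

/-- the automorphism acts on the fundamental root elements as a field automorphism -/
def FieldLike (φ : ↥(D.group F) ≃* ↥(D.group F)) : Prop :=
  ∃ σ : F ≃+* F, ∀ (i : Fin D.rank) (t : F),
    φ (xS D hD (D.simple i) t) = xS D hD (D.simple i) (σ t) ∧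
    φ (xS D hD (D.neg (D.simple i)) t) = xS D hD (D.neg (D.simple i)) (σ t)

/-- the automorphism acts on the fundamental root elements as a graph automorphism for `π` -/
def GraphLike (φ : ↥(D.group F) ≃* ↥(D.group F)) (π : Equiv.Perm (Fin D.rank)) : Prop :=
  ∀ (i : Fin D.rank) (t : F),
    φ (xS D hD (D.simple i) t) = xS D hD (D.simple (π i)) (t ^ D.graphExp (ringChar F) i (π i)) ∧
    φ (xS D hD (D.neg (D.simple i)) t) = xS D hD (D.neg (D.simple (π i))) (t ^ D.graphExp (ringChar F) i (π i))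

theorem diagAut_xS (χ : ℕ → Fˣ) (hχ : D.IsRootCharacter χ) (r : ℕ) (hr : r < D.nroots) (t : F) :
    diagAut D hD χ hχ (xS D hD r t) = xS D hD r ((χ r : F) * t) := by
  apply eq_xS
  exact diagAut_x D hD χ hχ _ r hr t (coe_xS D hD r t)

theorem isDiagonalAut_iff (φ : ↥(D.group F) ≃* ↥(D.group F)) : D.IsDiagonalAut φ ↔ DiagLike D hD φ := by
  have hsim := simpleOK_of_mem D hD
  constructor
  · rintro ⟨χ, hχ, h⟩
    have key : ∀ (r : ℕ) (t : F), r < D.nroots → φ (xS D hD r t) = xS D hD r ((χ r : F) * t) := by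
      intro r t hr
      apply eq_xS
      rw [h, coe_xS]
      exact Cfsg.Agent.S2157.result D hD χ hχ r hr t
    refine ⟨fun i => χ (D.simple i), fun i t => ⟨?_, ?_⟩⟩
    · exact key _ t (simple_lt D hsim i i.2)
    · have hpi := simple_lt D hsim i i.2
      rw [key _ t (neg_lt D hD _ hpi), hχ.1 _ hpi]
  · rintro ⟨c, hc⟩
    obtain ⟨χ, hχ, hχs⟩ := exists_rootCharacter D hD (fun j => if hj : j < D.rank then c ⟨j, hj⟩ else 1)
    have hχi : ∀ i : Fin D.rank, χ (D.simple i) = c i := by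
      intro i
      rw [hχs _ i.2, dif_pos i.2]
    have e : φ = diagAut D hD χ hχ := by
      apply aut_ext D hD
      intro i t
      have hpi := simple_lt D hsim i i.2
      rw [diagAut_xS D hD χ hχ _ hpi, diagAut_xS D hD χ hχ _ (neg_lt D hD _ hpi), hχ.1 _ hpi, hχi]
      exact hc i t
    rw [e]
    exact isDiagonalAut_diagAut D hD χ hχ

theorem isFieldAut_iff (φ : ↥(D.group F) ≃* ↥(D.group F)) : D.IsFieldAut φ ↔ FieldLike D hD φ := by
  have hsim := simpleOK_of_mem D hD
  have hadd := Cfsg.Agent.Helper40.ChevAdd.addOK_of_mem hD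
  constructor
  · rintro ⟨σ, h⟩
    refine ⟨σ, fun i t => ⟨?_, ?_⟩⟩
    · apply eq_xS
      exact h _ _ t (simple_lt D hsim i i.2) (coe_xS D hD _ _)
    · apply eq_xS
      exact h _ _ t (neg_lt D hD _ (simple_lt D hsim i i.2)) (coe_xS D hD _ _)
  · rintro ⟨σ, h⟩
    have e : φ = fieldAut D hadd σ := by
      apply aut_ext D hD
      intro i t
      rw [(h i t).1, (h i t).2]
      constructor
      · symm
        apply eq_xS
        exact fieldAut_x D hadd σ _ _ t (coe_xS D hD _ _)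
      · symm
        apply eq_xS
        exact fieldAut_x D hadd σ _ _ t (coe_xS D hD _ _)
    rw [e]
    exact isFieldAut_fieldAut D hadd σ

theorem isGraphAut_iff (φ : ↥(D.group F) ≃* ↥(D.group F)) :
    D.IsGraphAut φ ↔ ∃ π : Equiv.Perm (Fin D.rank), D.IsDiagramSymmetry π ∧ GraphLike D hD φ π := by
  constructor
  · rintro ⟨π, hπ, h⟩
    refine ⟨π, hπ, fun i t => ⟨?_, ?_⟩⟩
    · apply eq_xS
      exact (h _ i t).1 (coe_xS D hD _ _)
    · apply eq_xS
      exact (h _ i t).2 (coe_xS D hD _ _)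
  · rintro ⟨π, hπ, h⟩
    refine ⟨π, hπ, fun γ i t => ⟨?_, ?_⟩⟩
    · intro hγ
      rw [eq_xS D hD γ _ _ hγ, (h i t).1]
      exact coe_xS D hD _ _
    · intro hγ
      rw [eq_xS D hD γ _ _ hγ, (h i t).2]
      exact coe_xS D hD _ _

/-- the subgroup of diagonal automorphisms -/
def diagSub : Subgroup (MulAut ↥(D.group F)) where
  carrier := {φ | DiagLike D hD φ}
  one_mem' := ⟨fun _ => 1, fun i t => by simp⟩
  mul_mem' := by
    rintro φ ψ ⟨c, hc⟩ ⟨c', hc'⟩
    refine ⟨fun i => c i * c' i, fun i t => ?_⟩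
    rw [MulAut.mul_apply, MulAut.mul_apply, (hc' i t).1, (hc' i t).2, (hc i _).1, (hc i _).2]
    constructor
    · congr 1
      push_cast
      ring
    · congr 1
      rw [mul_inv]
      push_cast
      ring
  inv_mem' := by
    rintro φ ⟨c, hc⟩
    refine ⟨fun i => (c i)⁻¹, fun i t => ?_⟩
    rw [MulAut.inv_apply, MulAut.inv_apply, MulEquiv.symm_apply_eq, MulEquiv.symm_apply_eq, (hc i _).1, (hc i _).2,
      inv_inv]
    constructor
    · congr 1
      rw [← mul_assoc, ← Units.val_mul, mul_inv_cancel, Units.val_one, one_mul]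
    · congr 1
      rw [← mul_assoc, ← Units.val_mul, inv_mul_cancel, Units.val_one, one_mul]

theorem mem_diagSub (φ : MulAut ↥(D.group F)) : φ ∈ diagSub D hD ↔ D.IsDiagonalAut φ :=
  (isDiagonalAut_iff D hD φ).symm

theorem diagSub_comm (φ ψ : MulAut ↥(D.group F)) (hφ : φ ∈ diagSub D hD) (hψ : ψ ∈ diagSub D hD) :
    φ * ψ = ψ * φ := by
  obtain ⟨c, hc⟩ := hφ
  obtain ⟨c', hc'⟩ := hψ
  apply aut_ext D hD
  intro i t
  rw [MulAut.mul_apply, MulAut.mul_apply, MulAut.mul_apply, MulAut.mul_apply, (hc' i t).1, (hc' i t).2, (hc i _).1,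
    (hc i _).2, (hc i t).1, (hc i t).2, (hc' i _).1, (hc' i _).2]
  constructor
  · congr 1
    ring
  · congr 1
    ring

/-- the subgroup of field automorphisms -/
def fieldSub : Subgroup (MulAut ↥(D.group F)) where
  carrier := {φ | FieldLike D hD φ}
  one_mem' := ⟨RingEquiv.refl F, fun i t => by simp⟩
  mul_mem' := by
    rintro φ ψ ⟨σ, hσ⟩ ⟨τ, hτ⟩
    refine ⟨τ.trans σ, fun i t => ?_⟩
    rw [MulAut.mul_apply, MulAut.mul_apply, (hτ i t).1, (hτ i t).2, (hσ i _).1, (hσ i _).2]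
    exact ⟨rfl, rfl⟩
  inv_mem' := by
    rintro φ ⟨σ, hσ⟩
    refine ⟨σ.symm, fun i t => ?_⟩
    rw [MulAut.inv_apply, MulAut.inv_apply, MulEquiv.symm_apply_eq, MulEquiv.symm_apply_eq, (hσ i _).1, (hσ i _).2,
      RingEquiv.apply_symm_apply]
    exact ⟨rfl, rfl⟩

theorem mem_fieldSub (φ : MulAut ↥(D.group F)) : φ ∈ fieldSub D hD ↔ D.IsFieldAut φ :=
  (isFieldAut_iff D hD φ).symm

/-- conjugating a diagonal automorphism by a field automorphism gives a diagonal automorphism -/
theorem conj_field_diag (φ δ : MulAut ↥(D.group F)) (hφ : φ ∈ fieldSub D hD) (hδ : δ ∈ diagSub D hD) :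
    φ * δ * φ⁻¹ ∈ diagSub D hD := by
  obtain ⟨σ, hσ⟩ := hφ
  obtain ⟨c, hc⟩ := hδ
  refine ⟨fun i => Units.map (σ : F →* F) (c i), fun i t => ?_⟩
  have e1 : φ⁻¹ (xS D hD (D.simple i) t) = xS D hD (D.simple i) (σ.symm t) := by
    rw [MulAut.inv_apply, MulEquiv.symm_apply_eq, (hσ i _).1, RingEquiv.apply_symm_apply]
  have e2 : φ⁻¹ (xS D hD (D.neg (D.simple i)) t) = xS D hD (D.neg (D.simple i)) (σ.symm t) := by
    rw [MulAut.inv_apply, MulEquiv.symm_apply_eq, (hσ i _).2, RingEquiv.apply_symm_apply]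
  rw [MulAut.mul_apply, MulAut.mul_apply, MulAut.mul_apply, MulAut.mul_apply, e1, e2, (hc i _).1, (hc i _).2,
    (hσ i _).1, (hσ i _).2]
  constructor
  · congr 1
    rw [map_mul, RingEquiv.apply_symm_apply]
    rfl
  · congr 1
    rw [map_mul, RingEquiv.apply_symm_apply, ← map_inv]
    rfl

theorem graphExp_cases (c i j : ℕ) : D.graphExp c i j = c ∨ D.graphExp c i j = 1 := by
  unfold ChevalleyDatum.graphExp
  split_ifs
  · exact Or.inl rfl
  · exact Or.inr rfl

theorem pow_graphExp_surj [Finite F] (i j : ℕ) (u : F) : ∃ t : F, t ^ D.graphExp (ringChar F) i j = u := by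
  rcases graphExp_cases D (ringChar F) i j with h | h
  · rw [h]
    obtain ⟨p, hp⟩ := CharP.exists F
    have hp' : Nat.Prime p := CharP.char_is_prime F p
    have hpe : ringChar F = p := ringChar.eq F p
    rw [hpe]
    have : ExpChar F p := ExpChar.prime hp'
    obtain ⟨y, hy⟩ := surjective_frobenius F p u
    exact ⟨y, hy⟩
  · rw [h]
    exact ⟨u, pow_one u⟩

/-- conjugating a diagonal automorphism by a graph automorphism gives a diagonal automorphism -/
theorem conj_graph_diag [Finite F] (g δ : MulAut ↥(D.group F)) (π : Equiv.Perm (Fin D.rank))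
    (hg : GraphLike D hD g π) (hδ : δ ∈ diagSub D hD) : g * δ * g⁻¹ ∈ diagSub D hD := by
  obtain ⟨c, hc⟩ := hδ
  refine ⟨fun j => c (π.symm j) ^ D.graphExp (ringChar F) (π.symm j) j, fun j t => ?_⟩
  obtain ⟨u, hu⟩ := pow_graphExp_surj D (π.symm j) j t
  have hj : π (π.symm j) = j := π.apply_symm_apply j
  have e1 : g⁻¹ (xS D hD (D.simple j) t) = xS D hD (D.simple (π.symm j)) u := by
    rw [MulAut.inv_apply, MulEquiv.symm_apply_eq, (hg _ _).1, hj, hu]
  have e2 : g⁻¹ (xS D hD (D.neg (D.simple j)) t) = xS D hD (D.neg (D.simple (π.symm j))) u := by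
    rw [MulAut.inv_apply, MulEquiv.symm_apply_eq, (hg _ _).2, hj, hu]
  rw [MulAut.mul_apply, MulAut.mul_apply, MulAut.mul_apply, MulAut.mul_apply, e1, e2, (hc _ _).1, (hc _ _).2,
    (hg _ _).1, (hg _ _).2, hj]
  constructor
  · congr 1
    rw [mul_pow, hu]
    push_cast
    rfl
  · congr 1
    rw [mul_pow, hu, ← inv_pow]
    push_cast
    rfl

/-- graph automorphisms commute with field automorphisms -/
theorem graph_field_comm (g φ : MulAut ↥(D.group F)) (π : Equiv.Perm (Fin D.rank))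
    (hg : GraphLike D hD g π) (hφ : φ ∈ fieldSub D hD) : g * φ = φ * g := by
  obtain ⟨σ, hσ⟩ := hφ
  apply aut_ext D hD
  intro i t
  rw [MulAut.mul_apply, MulAut.mul_apply, MulAut.mul_apply, MulAut.mul_apply, (hσ i t).1, (hσ i t).2, (hg _ _).1,
    (hg _ _).2, (hg _ _).1, (hg _ _).2, (hσ _ _).1, (hσ _ _).2, map_pow]
  exact ⟨rfl, rfl⟩

/-- graph automorphisms for the same permutation agree -/
theorem graphLike_unique (g g' : MulAut ↥(D.group F)) (π : Equiv.Perm (Fin D.rank))
    (hg : GraphLike D hD g π) (hg' : GraphLike D hD g' π) : g = g' := by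
  apply aut_ext D hD
  intro i t
  rw [(hg i t).1, (hg i t).2, (hg' i t).1, (hg' i t).2]
  exact ⟨rfl, rfl⟩

theorem graphLike_one (g : MulAut ↥(D.group F)) (hg : GraphLike D hD g 1) : g = 1 := by
  apply aut_ext D hD
  intro i t
  rw [(hg i t).1, (hg i t).2]
  simp only [Equiv.Perm.one_apply, graphExp_self, pow_one]
  exact ⟨rfl, rfl⟩

/-- the decomposition of an automorphism -/
theorem aut_decomp [Finite F] (θ : MulAut ↥(D.group F)) :
    ∃ (x : ↥(D.group F)) (d g f : MulAut ↥(D.group F)) (π : Equiv.Perm (Fin D.rank)),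
      d ∈ diagSub D hD ∧ D.IsDiagramSymmetry π ∧ GraphLike D hD g π ∧ f ∈ fieldSub D hD ∧
      θ = MulAut.conj x * d * g * f := by
  obtain ⟨x, d, g, f, hd, hg, hf, h⟩ := Cfsg.Agent.S2156.result D hD θ
  obtain ⟨π, hπ, hgπ⟩ := (isGraphAut_iff D hD g).mp hg
  refine ⟨x, d, g, f, π, (mem_diagSub D hD d).mpr hd, hπ, hgπ, (mem_fieldSub D hD f).mpr hf, ?_⟩
  apply MulEquiv.ext
  intro y
  rw [h y]
  rfl

end

end Cfsg.Agent.Helper18.Aut
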