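import Cfsg.Agent.Helper18.Aut.OutD4
import Cfsg.Prelude.Def_KGroupFacts

/-!
Helper18: the structure of the outer automorphism group of a finite Chevalley group of one of the seven tabulated
types: images of the diagonal and field automorphisms, and the quotient by them.
-/

set_option autoImplicit false
set_option maxRecDepth 100000

namespace Cfsg.Agent.Helper18.Aut

open Cfsg Cfsg.Lie Cfsg.Agent.Helper18 Cfsg.Agent.Helper36 Cfsg.Agent.Helper36.ChevAut Cfsg.Agent.S2156

section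

variable {F : Type*} [Field F] [Finite F] (D : ChevalleyDatum)
  (hD : D ∈ [chevG2, chevB2, chevD4, chevF4, chevE6, chevE7, chevE8])

/-- the projection to the outer automorphism group -/
abbrev qOut (F : Type*) [Field F] (D : ChevalleyDatum) :
    MulAut ↥(D.group F) →* Cfsg.Out ↥(D.group F) :=
  QuotientGroup.mk' (Cfsg.Inn ↥(D.group F))

omit [Finite F] in
theorem qOut_conj (x : ↥(D.group F)) : qOut F D (MulAut.conj x) = 1 :=
  (QuotientGroup.eq_one_iff _).mpr ⟨x, rfl⟩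

omit [Finite F] in
theorem qOut_surj : Function.Surjective (qOut F D) := QuotientGroup.mk'_surjective _

/-- the image of the diagonal automorphisms -/
abbrev dBar (F : Type*) [Field F] (D : ChevalleyDatum)
    (hD : D ∈ [chevG2, chevB2, chevD4, chevF4, chevE6, chevE7, chevE8]) : Subgroup (Cfsg.Out ↥(D.group F)) :=
  (diagSub (F := F) D hD).map (qOut F D)

/-- the image of the field automorphisms -/
abbrev fBar (F : Type*) [Field F] (D : ChevalleyDatum)
    (hD : D ∈ [chevG2, chevB2, chevD4, chevF4, chevE6, chevE7, chevE8]) : Subgroup (Cfsg.Out ↥(D.group F)) :=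
  (fieldSub (F := F) D hD).map (qOut F D)

/-- conjugates of diagonal automorphisms are diagonal modulo inner automorphisms -/
theorem conj_any_diag (θ δ : MulAut ↥(D.group F)) (hδ : δ ∈ diagSub D hD) :
    ∃ δ' ∈ diagSub D hD, qOut F D (θ * δ * θ⁻¹) = qOut F D δ' := by
  obtain ⟨x, d, g, f, π, hd, -, hg, hf, rfl⟩ := aut_decomp D hD θ
  have h1 := conj_field_diag D hD f δ hf hδ
  have h2 := conj_graph_diag D hD g _ π hg h1
  have h3 : d * (g * (f * δ * f⁻¹) * g⁻¹) * d⁻¹ ∈ diagSub D hD :=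
    (diagSub D hD).mul_mem ((diagSub D hD).mul_mem hd h2) ((diagSub D hD).inv_mem hd)
  refine ⟨_, h3, ?_⟩
  have e : MulAut.conj x * d * g * f * δ * (MulAut.conj x * d * g * f)⁻¹ =
      MulAut.conj x * (d * (g * (f * δ * f⁻¹) * g⁻¹) * d⁻¹) * (MulAut.conj x)⁻¹ := by group
  rw [e, map_mul, map_mul, map_inv, qOut_conj, one_mul, inv_one, mul_one]

/-- conjugates of field automorphisms are products of diagonal and field automorphisms modulo inner ones -/
theorem conj_any_field (θ φ : MulAut ↥(D.group F)) (hφ : φ ∈ fieldSub D hD) :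
    qOut F D (θ * φ * θ⁻¹) ∈ dBar F D hD ⊔ fBar F D hD := by
  obtain ⟨x, d, g, f, π, hd, -, hg, hf, rfl⟩ := aut_decomp D hD θ
  have h1 : f * φ * f⁻¹ ∈ fieldSub D hD :=
    (fieldSub D hD).mul_mem ((fieldSub D hD).mul_mem hf hφ) ((fieldSub D hD).inv_mem hf)
  have h2 := graph_field_comm D hD g _ π hg h1
  have h3 : g * (f * φ * f⁻¹) * g⁻¹ = f * φ * f⁻¹ := by rw [h2, mul_inv_cancel_right]
  have h4 : (f * φ * f⁻¹) * d⁻¹ * (f * φ * f⁻¹)⁻¹ ∈ diagSub D hD :=
    conj_field_diag D hD _ _ h1 ((diagSub D hD).inv_mem hd)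
  have h5 : d * ((f * φ * f⁻¹) * d⁻¹ * (f * φ * f⁻¹)⁻¹) ∈ diagSub D hD := (diagSub D hD).mul_mem hd h4
  have e : MulAut.conj x * d * g * f * φ * (MulAut.conj x * d * g * f)⁻¹ =
      MulAut.conj x * (d * (g * (f * φ * f⁻¹) * g⁻¹) * d⁻¹) * (MulAut.conj x)⁻¹ := by group
  have e' : d * (f * φ * f⁻¹) * d⁻¹ =
      d * ((f * φ * f⁻¹) * d⁻¹ * (f * φ * f⁻¹)⁻¹) * (f * φ * f⁻¹) := by group
  rw [e, h3, e', map_mul, map_mul, map_inv, qOut_conj, one_mul, inv_one, mul_one, map_mul]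
  exact Subgroup.mul_mem_sup (Subgroup.mem_map_of_mem _ h5) (Subgroup.mem_map_of_mem _ h1)

theorem dBar_normal : (dBar F D hD).Normal := by
  constructor
  intro n hn a
  obtain ⟨δ, hδ, rfl⟩ := Subgroup.mem_map.mp hn
  obtain ⟨θ, rfl⟩ := qOut_surj (F := F) D a
  obtain ⟨δ', hδ', e⟩ := conj_any_diag D hD θ δ hδ
  rw [← map_inv, ← map_mul, ← map_mul, e]
  exact Subgroup.mem_map_of_mem _ hδ'

omit [Finite F] in
theorem dBar_comm : IsMulCommutative ↥(dBar F D hD) := by
  rw [isMulCommutative_iff]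
  rintro ⟨a, ha⟩ ⟨b, hb⟩
  apply Subtype.ext
  obtain ⟨δ, hδ, rfl⟩ := Subgroup.mem_map.mp ha
  obtain ⟨δ', hδ', rfl⟩ := Subgroup.mem_map.mp hb
  show qOut F D δ * qOut F D δ' = qOut F D δ' * qOut F D δ
  rw [← map_mul, ← map_mul, diagSub_comm D hD δ δ' hδ hδ']

theorem dfBar_normal : (dBar F D hD ⊔ fBar F D hD).Normal := by
  haveI := dBar_normal (F := F) D hD
  constructor
  intro n hn a
  have hle : dBar F D hD ⊔ fBar F D hD ≤
      (dBar F D hD ⊔ fBar F D hD).comap ((MulAut.conj a : MulAut (Cfsg.Out ↥(D.group F))).toMonoidHom) := by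
    apply sup_le
    · intro m hm
      rw [Subgroup.mem_comap]
      show a * m * a⁻¹ ∈ _
      exact Subgroup.mem_sup_left ((dBar_normal (F := F) D hD).conj_mem m hm a)
    · intro m hm
      rw [Subgroup.mem_comap]
      show a * m * a⁻¹ ∈ _
      obtain ⟨φ, hφ, rfl⟩ := Subgroup.mem_map.mp hm
      obtain ⟨θ, rfl⟩ := qOut_surj (F := F) D a
      rw [← map_inv, ← map_mul, ← map_mul]
      exact conj_any_field D hD θ φ hφ
  have := hle hn
  rw [Subgroup.mem_comap] at this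
  exact this


omit [Finite F] in
theorem fieldAut_xS (hadd : Cfsg.Agent.Helper40.ChevAdd.addOK D = true) (σ : F ≃+* F) (r : ℕ) (t : F) :
    fieldAut D hadd σ (xS D hD r t) = xS D hD r (σ t) := by
  apply eq_xS
  exact fieldAut_x D hadd σ _ r t (coe_xS D hD r t)

theorem fBar_cyclic : IsCyclic ↥(fBar F D hD) := by
  classical
  have hadd := Cfsg.Agent.Helper40.ChevAdd.addOK_of_mem hD
  obtain ⟨p, hp⟩ := CharP.exists F
  haveI := hp
  haveI : Fact p.Prime := ⟨CharP.char_is_prime F p⟩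
  letI : Algebra (ZMod p) F := ZMod.algebra F p
  let Φ : (F ≃ₐ[ZMod p] F) →* MulAut ↥(D.group F) :=
    { toFun := fun σ => fieldAut D hadd (σ : F ≃+* F)
      map_one' := by
        apply aut_ext D hD
        intro i t
        rw [fieldAut_xS D hD, fieldAut_xS D hD]
        exact ⟨rfl, rfl⟩
      map_mul' := by
        intro σ τ
        apply aut_ext D hD
        intro i t
        rw [MulAut.mul_apply, MulAut.mul_apply, fieldAut_xS D hD, fieldAut_xS D hD, fieldAut_xS D hD,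
          fieldAut_xS D hD, fieldAut_xS D hD, fieldAut_xS D hD]
        exact ⟨rfl, rfl⟩ }
  have hmem : ∀ σ, ((qOut F D).comp Φ) σ ∈ fBar F D hD := fun σ =>
    Subgroup.mem_map_of_mem _ ((mem_fieldSub D hD _).mpr (isFieldAut_fieldAut D hadd _))
  let Ψ : (F ≃ₐ[ZMod p] F) →* ↥(fBar F D hD) := ((qOut F D).comp Φ).codRestrict _ hmem
  apply isCyclic_of_surjective Ψ
  rintro ⟨a, ha⟩
  obtain ⟨φ, hφ, rfl⟩ := Subgroup.mem_map.mp ha
  obtain ⟨σ, hσ⟩ := hφ
  have hcomm : ∀ x : ZMod p, σ (algebraMap (ZMod p) F x) = algebraMap (ZMod p) F x := by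
    intro x
    have : (σ : F →+* F).comp (algebraMap (ZMod p) F) = algebraMap (ZMod p) F := Subsingleton.elim _ _
    exact RingHom.congr_fun this x
  refine ⟨AlgEquiv.ofRingEquiv hcomm, ?_⟩
  apply Subtype.ext
  show qOut F D (fieldAut D hadd ((AlgEquiv.ofRingEquiv hcomm : F ≃ₐ[ZMod p] F) : F ≃+* F)) = qOut F D φ
  congr 1
  apply aut_ext D hD
  intro i t
  rw [fieldAut_xS D hD, fieldAut_xS D hD, (hσ i t).1, (hσ i t).2]
  exact ⟨rfl, rfl⟩

/-- every outer class is the class of a graph automorphism modulo diagonal and field automorphisms -/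
theorem exists_graph_rep (a : Cfsg.Out ↥(D.group F)) :
    ∃ (g : MulAut ↥(D.group F)) (π : Equiv.Perm (Fin D.rank)), D.IsDiagramSymmetry π ∧ GraphLike D hD g π ∧
      (qOut F D g)⁻¹ * a ∈ dBar F D hD ⊔ fBar F D hD := by
  obtain ⟨θ, rfl⟩ := qOut_surj (F := F) D a
  obtain ⟨x, d, g, f, π, hd, hπ, hg, hf, rfl⟩ := aut_decomp D hD θ
  refine ⟨g, π, hπ, hg, ?_⟩
  rw [map_mul, map_mul, map_mul, qOut_conj, one_mul]
  have e : (qOut F D g)⁻¹ * (qOut F D d * qOut F D g * qOut F D f) =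
      ((qOut F D g)⁻¹ * qOut F D d * ((qOut F D g)⁻¹)⁻¹) * qOut F D f := by group
  rw [e]
  exact Subgroup.mul_mem_sup ((dBar_normal (F := F) D hD).conj_mem _ (Subgroup.mem_map_of_mem _ hd) _)
    (Subgroup.mem_map_of_mem _ hf)

/-- an automorphism whose class is a product of diagonal and field classes -/
theorem mem_dfBar_decomp (γ : MulAut ↥(D.group F)) (h : qOut F D γ ∈ dBar F D hD ⊔ fBar F D hD) :
    ∃ d ∈ diagSub D hD, ∃ f ∈ fieldSub D hD, ∃ x : ↥(D.group F), γ = d * f * MulAut.conj x := by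
  haveI := dBar_normal (F := F) D hD
  have h' : qOut F D γ ∈ ((dBar F D hD ⊔ fBar F D hD : Subgroup _) : Set (Cfsg.Out ↥(D.group F))) := h
  rw [Subgroup.normal_mul] at h'
  obtain ⟨n, hn, m, hm, e⟩ := Set.mem_mul.mp h'
  obtain ⟨d, hd, rfl⟩ := Subgroup.mem_map.mp hn
  obtain ⟨f, hf, rfl⟩ := Subgroup.mem_map.mp hm
  rw [← map_mul] at e
  have e2 : (d * f)⁻¹ * γ ∈ Cfsg.Inn ↥(D.group F) := QuotientGroup.eq.mp e
  obtain ⟨x, hx⟩ := e2
  refine ⟨d, hd, f, hf, x, ?_⟩
  rw [hx]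
  group

theorem index_le_two_of (τ : Equiv.Perm (Fin D.rank))
    (hcls : ∀ π : Equiv.Perm (Fin D.rank), D.IsDiagramSymmetry π → π = 1 ∨ π = τ) :
    (dBar F D hD ⊔ fBar F D hD).index = 1 ∨ (dBar F D hD ⊔ fBar F D hD).index = 2 := by
  classical
  haveI := dfBar_normal (F := F) D hD
  obtain ⟨g₁, hg₁⟩ : ∃ g₁ : MulAut ↥(D.group F), ∀ (g : MulAut ↥(D.group F)) (π : Equiv.Perm (Fin D.rank)),
      D.IsDiagramSymmetry π → GraphLike D hD g π → g = 1 ∨ g = g₁ := by
    by_cases hex : ∃ g₁ : MulAut ↥(D.group F), GraphLike D hD g₁ τ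
    · obtain ⟨g₁, h₁⟩ := hex
      refine ⟨g₁, fun g π hπ hg => ?_⟩
      rcases hcls π hπ with rfl | rfl
      · exact Or.inl (graphLike_one D hD g hg)
      · exact Or.inr (graphLike_unique D hD g g₁ _ hg h₁)
    · refine ⟨1, fun g π hπ hg => ?_⟩
      rcases hcls π hπ with rfl | rfl
      · exact Or.inl (graphLike_one D hD g hg)
      · exact absurd ⟨g, hg⟩ hex
  have hsurj : Function.Surjective (fun b : Bool =>
      (QuotientGroup.mk (if b then qOut F D g₁ else 1) :
        Cfsg.Out ↥(D.group F) ⧸ (dBar F D hD ⊔ fBar F D hD))) := by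
    intro c
    obtain ⟨a, rfl⟩ := QuotientGroup.mk_surjective c
    obtain ⟨g, π, hπ, hg, hmem⟩ := exists_graph_rep D hD a
    rcases hg₁ g π hπ hg with rfl | rfl
    · refine ⟨false, ?_⟩
      simp only [Bool.false_eq_true, if_false]
      rw [QuotientGroup.eq]
      simpa using hmem
    · refine ⟨true, ?_⟩
      simp only [if_true]
      rw [QuotientGroup.eq]
      exact hmem
  have hle : Nat.card (Cfsg.Out ↥(D.group F) ⧸ (dBar F D hD ⊔ fBar F D hD)) ≤ 2 := by
    have := Nat.card_le_card_of_surjective _ hsurj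
    simpa using this
  have hne : (dBar F D hD ⊔ fBar F D hD).index ≠ 0 := Subgroup.index_ne_zero_of_finite
  have hle' : (dBar F D hD ⊔ fBar F D hD).index ≤ 2 := hle
  omega

end

/-! ### Type `D₄` -/

instance decSymD4 : DecidablePred (chevD4.IsDiagramSymmetry) := fun π =>
  inferInstanceAs (Decidable (∀ i j : Fin chevD4.rank, i ≠ j → chevD4.bonds (π i) (π j) = chevD4.bonds i j))

theorem card_symD4 :
    Fintype.card {π : Equiv.Perm (Fin chevD4.rank) // chevD4.IsDiagramSymmetry π} = 6 := by decide +kernel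

theorem sym_s02 : chevD4.IsDiagramSymmetry (Equiv.swap d40 d42) := by decide +kernel
theorem sym_s23 : chevD4.IsDiagramSymmetry (Equiv.swap d42 d43) := by decide +kernel
theorem comm_ne_one : Equiv.swap d40 d42 * Equiv.swap d42 d43 * (Equiv.swap d40 d42)⁻¹ * (Equiv.swap d42 d43)⁻¹ ≠ 1 := by
  decide +kernel

section D4

open scoped commutatorElement

variable {F : Type*} [Field F] [Finite F]

theorem perm_apply_inv' {α : Type*} (π : Equiv.Perm α) (i : α) : π (π⁻¹ i) = i := π.apply_symm_apply i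

omit [Finite F] in
theorem graphExp_D4 (i j : Fin chevD4.rank) : chevD4.graphExp (ringChar F) i j = 1 :=
  graphExp_of_notLong chevD4 notLong_D4 _ _ _ j.2

omit [Finite F] in
theorem graphLike_mul_D4 (g g' : MulAut ↥(chevD4.group F)) (π π' : Equiv.Perm (Fin chevD4.rank))
    (hg : GraphLike chevD4 hD4 g π) (hg' : GraphLike chevD4 hD4 g' π') :
    GraphLike chevD4 hD4 (g * g') (π * π') := by
  intro i t
  rw [MulAut.mul_apply, MulAut.mul_apply, (hg' i t).1, (hg' i t).2, (hg _ _).1, (hg _ _).2]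
  constructor
  · simp only [graphExp_D4, pow_one]
    rfl
  · simp only [graphExp_D4, pow_one]
    rfl

omit [Finite F] in
theorem graphLike_inv_D4 (g : MulAut ↥(chevD4.group F)) (π : Equiv.Perm (Fin chevD4.rank))
    (hg : GraphLike chevD4 hD4 g π) : GraphLike chevD4 hD4 g⁻¹ π⁻¹ := by
  intro i t
  rw [MulAut.inv_apply, MulAut.inv_apply, MulEquiv.symm_apply_eq, MulEquiv.symm_apply_eq, (hg _ _).1, (hg _ _).2]
  constructor
  · simp only [graphExp_D4, pow_one, perm_apply_inv']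
  · simp only [graphExp_D4, pow_one, perm_apply_inv']

theorem sym_mul (D : ChevalleyDatum) (π π' : Equiv.Perm (Fin D.rank)) (h : D.IsDiagramSymmetry π)
    (h' : D.IsDiagramSymmetry π') : D.IsDiagramSymmetry (π * π') := by
  intro i j hij
  rw [Equiv.Perm.mul_apply, Equiv.Perm.mul_apply, h _ _ (fun e => hij (π'.injective e)), h' i j hij]

theorem sym_inv (D : ChevalleyDatum) (π : Equiv.Perm (Fin D.rank)) (h : D.IsDiagramSymmetry π) :
    D.IsDiagramSymmetry π⁻¹ := by
  intro i j hij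
  have := h (π⁻¹ i) (π⁻¹ j) (fun e => hij (π⁻¹.injective e))
  rw [perm_apply_inv', perm_apply_inv'] at this
  exact this.symm

theorem graph_in_K_D4 (γ : MulAut ↥(chevD4.group F)) (ρ : Equiv.Perm (Fin chevD4.rank))
    (hρ : chevD4.IsDiagramSymmetry ρ) (hγ : GraphLike chevD4 hD4 γ ρ)
    (h : qOut F chevD4 γ ∈ dBar F chevD4 hD4 ⊔ fBar F chevD4 hD4) : ρ = 1 := by
  obtain ⟨d, hd, f, hf, x, e⟩ := mem_dfBar_decomp chevD4 hD4 γ h
  exact d4_graph_class γ d f ρ hρ hγ hd hf x e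

theorem index_D4 : (dBar F chevD4 hD4 ⊔ fBar F chevD4 hD4).index = 6 ∧
    ¬ commutator (Cfsg.Out ↥(chevD4.group F)) ≤ dBar F chevD4 hD4 ⊔ fBar F chevD4 hD4 := by
  classical
  haveI := dfBar_normal (F := F) chevD4 hD4
  have hex : ∀ π : {π : Equiv.Perm (Fin chevD4.rank) // chevD4.IsDiagramSymmetry π},
      ∃ g : MulAut ↥(chevD4.group F), GraphLike chevD4 hD4 g π.1 := fun π => graphEx_D4 π.1 (symD4 π.1 π.2)
  choose gOf hgOf using hex
  constructor
  · -- the index
    have hbij : Function.Bijective (fun π : {π : Equiv.Perm (Fin chevD4.rank) // chevD4.IsDiagramSymmetry π} =>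
        (QuotientGroup.mk (qOut F chevD4 (gOf π)) :
          Cfsg.Out ↥(chevD4.group F) ⧸ (dBar F chevD4 hD4 ⊔ fBar F chevD4 hD4))) := by
      constructor
      · intro π π' e
        have e1 : (qOut F chevD4 (gOf π))⁻¹ * qOut F chevD4 (gOf π') ∈
            dBar F chevD4 hD4 ⊔ fBar F chevD4 hD4 := QuotientGroup.eq.mp e
        rw [← map_inv, ← map_mul] at e1
        have h1 := graph_in_K_D4 _ _ (sym_mul chevD4 _ _ (sym_inv chevD4 _ π.2) π'.2)
          (graphLike_mul_D4 _ _ _ _ (graphLike_inv_D4 _ _ (hgOf π)) (hgOf π')) e1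
        apply Subtype.ext
        exact (inv_mul_eq_one.mp h1)
      · intro c
        obtain ⟨a, rfl⟩ := QuotientGroup.mk_surjective c
        obtain ⟨g, π, hπ, hg, hmem⟩ := exists_graph_rep chevD4 hD4 a
        refine ⟨⟨π, hπ⟩, ?_⟩
        have e : g = gOf ⟨π, hπ⟩ := graphLike_unique chevD4 hD4 g _ π hg (hgOf ⟨π, hπ⟩)
        show (QuotientGroup.mk (qOut F chevD4 (gOf ⟨π, hπ⟩)) : _ ⧸ _) = QuotientGroup.mk a
        rw [← e, QuotientGroup.eq]
        exact hmem
    have hc := Nat.card_congr (Equiv.ofBijective _ hbij)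
    rw [Nat.card_eq_fintype_card, card_symD4] at hc
    exact hc.symm
  · -- the quotient is not commutative
    intro hcomm
    have hg1 := hgOf ⟨_, sym_s02⟩
    have hg2 := hgOf ⟨_, sym_s23⟩
    set g1 := gOf ⟨_, sym_s02⟩ with hg1def
    set g2 := gOf ⟨_, sym_s23⟩ with hg2def
    have hmem : ⁅qOut F chevD4 g1, qOut F chevD4 g2⁆ ∈ commutator (Cfsg.Out ↥(chevD4.group F)) := by
      rw [commutator_def]
      exact Subgroup.commutator_mem_commutator (Subgroup.mem_top _) (Subgroup.mem_top _)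
    have h1 := hcomm hmem
    rw [commutatorElement_def, ← map_inv, ← map_inv, ← map_mul, ← map_mul, ← map_mul] at h1
    have h2 := graph_in_K_D4 _ _
      (sym_mul chevD4 _ _ (sym_mul chevD4 _ _ (sym_mul chevD4 _ _ sym_s02 sym_s23) (sym_inv chevD4 _ sym_s02))
        (sym_inv chevD4 _ sym_s23))
      (graphLike_mul_D4 _ _ _ _ (graphLike_mul_D4 _ _ _ _ (graphLike_mul_D4 _ _ _ _ hg1 hg2)
        (graphLike_inv_D4 _ _ hg1)) (graphLike_inv_D4 _ _ hg2)) h1
    exact comm_ne_one h2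

end D4


end Cfsg.Agent.Helper18.Aut
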