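import Cfsg.Agent.Helper36.RootCoord
import Cfsg.Agent.Helper36.ChevChain
import Cfsg.Agent.Helper18.ConjAll

/-!
Helper18: existence of a character of the root lattice with prescribed values at the fundamental roots, for the
seven tabulated types.
-/

set_option autoImplicit false

namespace Cfsg.Agent.Helper18.Aut

open Cfsg Cfsg.Lie Cfsg.Agent.Helper18 Cfsg.Agent.Helper36 Cfsg.Agent.Helper36.RootCoord

/-- the first term of a chain, in terms of the coefficient table -/
theorem chainRoot_one_spec (D : ChevalleyDatum) (hD : chainOK D = true) (r s k : ℕ) (hr : r < D.nroots)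
    (h : D.chainRoot r s 1 = some k) : k < D.nroots ∧ ∃ M : ℤ, ((1 : ℕ), M) ∈ D.chainCoeff r s k := by
  unfold ChevalleyDatum.chainRoot ChevalleyDatum.chainEntry at h
  cases hf : (D.chain.getD r #[]).toList.find? (fun e => e.1 = s) with
  | none =>
    rw [hf] at h
    simp at h
  | some e =>
    rw [hf] at h
    obtain ⟨⟨k', M⟩, hkM, hk⟩ := Option.map_eq_some_iff.mp h
    have hk' : k' = k := hk
    subst hk'
    have hmem : e ∈ (D.chain.getD r #[]).toList := List.mem_of_find?_eq_some hf
    have hes : e.1 = s := by simpa using List.find?_some hf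
    have hkM' : e.2.toList[0]? = some (k', M) := hkM
    constructor
    · unfold chainOK at hD
      rw [List.all_eq_true] at hD
      have h1 := hD r (List.mem_range.mpr hr)
      rw [List.all_eq_true] at h1
      have h2 := h1 e hmem
      rw [Bool.and_eq_true] at h2
      have h3 := h2.2
      cases hl : e.2.toList with
      | nil => rw [hl] at hkM'; simp at hkM'
      | cons a l =>
        rw [hl] at hkM' h3
        simp only [List.getElem?_cons_zero, Option.some.injEq] at hkM'
        subst hkM'
        simp only [stepOK, Bool.and_eq_true, decide_eq_true_eq] at h3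
        exact h3.1.1
    · refine ⟨M, ?_⟩
      unfold ChevalleyDatum.chainCoeff
      simp only [List.mem_flatMap, List.mem_filter, List.mem_map, decide_eq_true_eq]
      refine ⟨e, ⟨hmem, hes⟩, ((k', M), 0), ⟨?_, rfl⟩, rfl⟩
      rw [List.mem_zipIdx_iff_getElem?]
      simpa using hkM'

/-- table check: the level functions of `ws` are `d` times the coefficient functions on the fundamental roots -/
def rootCoefOK (D : ChevalleyDatum) (ws : List (List ℤ)) (d : ℤ) : Bool :=
  decide (d ≠ 0) &&
  (List.range D.rank).all fun l =>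
    ((List.range D.nroots).all fun u =>
      decide (d * (lvlFast D (ws.getD l []) u / d) = lvlFast D (ws.getD l []) u)) &&
    ((List.range D.rank).all fun j =>
      decide (D.simple j < D.nroots) &&
      decide (lvlFast D (ws.getD l []) (D.simple j) = if j = l then d else 0))

set_option maxRecDepth 100000 in
theorem rootCoefOK_G2 : rootCoefOK chevG2 coordWG2 1 = true := by decide +kernel
set_option maxRecDepth 100000 in
theorem rootCoefOK_B2 : rootCoefOK chevB2 coordWB2 2 = true := by decide +kernel
set_option maxRecDepth 100000 in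
theorem rootCoefOK_D4 : rootCoefOK chevD4 coordWD4 2 = true := by decide +kernel
set_option maxRecDepth 100000 in
theorem rootCoefOK_F4 : rootCoefOK chevF4 coordWF4 1 = true := by decide +kernel
set_option maxRecDepth 100000 in
theorem rootCoefOK_E6 : rootCoefOK chevE6 coordWE6 3 = true := by decide +kernel
set_option maxRecDepth 100000 in
theorem rootCoefOK_E7 : rootCoefOK chevE7 coordWE7 2 = true := by decide +kernel
set_option maxRecDepth 100000 in
theorem rootCoefOK_E8 : rootCoefOK chevE8 coordWE8 1 = true := by decide +kernel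

theorem exists_rootCoefOK (D : ChevalleyDatum)
    (hD : D ∈ [chevG2, chevB2, chevD4, chevF4, chevE6, chevE7, chevE8]) :
    ∃ (ws : List (List ℤ)) (d : ℤ), rootCoefOK D ws d = true := by
  simp only [List.mem_cons, List.not_mem_nil, or_false] at hD
  rcases hD with rfl | rfl | rfl | rfl | rfl | rfl | rfl
  exacts [⟨_, _, rootCoefOK_G2⟩, ⟨_, _, rootCoefOK_B2⟩, ⟨_, _, rootCoefOK_D4⟩, ⟨_, _, rootCoefOK_F4⟩,
    ⟨_, _, rootCoefOK_E6⟩, ⟨_, _, rootCoefOK_E7⟩, ⟨_, _, rootCoefOK_E8⟩]

/-- integer coefficient functions of the roots on the fundamental roots: additive along sums of two roots,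
odd, and the Kronecker delta at the fundamental roots -/
theorem exists_rootCoef (D : ChevalleyDatum)
    (hD : D ∈ [chevG2, chevB2, chevD4, chevF4, chevE6, chevE7, chevE8]) :
    ∃ m : ℕ → ℕ → ℤ,
      (∀ l < D.rank, ∀ r < D.nroots, m l (D.neg r) = - m l r) ∧
      (∀ l < D.rank, ∀ r s k, r < D.nroots → s < D.nroots → D.chainRoot r s 1 = some k → m l k = m l r + m l s) ∧
      (∀ l < D.rank, ∀ j < D.rank, m l (D.simple j) = if j = l then 1 else 0) := by
  obtain ⟨ws, d, hws⟩ := exists_rootCoefOK D hD
  have hadd := addAllOK_of_mem D hD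
  have hchain := chainOK_of_mem D hD
  unfold rootCoefOK at hws
  rw [Bool.and_eq_true, decide_eq_true_eq, List.all_eq_true] at hws
  obtain ⟨hd, hws⟩ := hws
  have hA : ∀ l < D.rank, ∀ s < D.nroots, IsAdditiveAt D (lvlF D (ws.getD l [])) s := by
    intro l _ s hs
    apply isAdditiveAt_lvlF
    intro j hj
    unfold addAllOK at hadd
    rw [List.all_eq_true] at hadd
    exact isAdditiveAt_cartan D j (hadd j (List.mem_range.mpr hj)) s hs
  have hdiv : ∀ l < D.rank, ∀ u < D.nroots,
      d * (lvlF D (ws.getD l []) u / d) = lvlF D (ws.getD l []) u := by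
    intro l hl u hu
    have h1 := hws l (List.mem_range.mpr hl)
    rw [Bool.and_eq_true, List.all_eq_true] at h1
    have h2 := h1.1 u (List.mem_range.mpr hu)
    rw [decide_eq_true_eq, lvlFast_eq D hadd _ _ hu] at h2
    exact h2
  have hsim : ∀ l < D.rank, ∀ j < D.rank,
      D.simple j < D.nroots ∧ lvlF D (ws.getD l []) (D.simple j) = if j = l then d else 0 := by
    intro l hl j hj
    have h1 := hws l (List.mem_range.mpr hl)
    rw [Bool.and_eq_true, List.all_eq_true, List.all_eq_true] at h1
    have h2 := h1.2 j (List.mem_range.mpr hj)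
    rw [Bool.and_eq_true, decide_eq_true_eq, decide_eq_true_eq] at h2
    refine ⟨h2.1, ?_⟩
    rw [← lvlFast_eq D hadd _ _ h2.1]
    exact h2.2
  have hneglt : ∀ r < D.nroots, D.neg r < D.nroots := by
    intro r hr
    unfold addAllOK at hadd
    rw [List.all_eq_true] at hadd
    have hrk : 0 < D.rank := by
      simp only [List.mem_cons, List.not_mem_nil, or_false] at hD
      rcases hD with rfl | rfl | rfl | rfl | rfl | rfl | rfl <;> decide
    have h0 := hadd 0 (List.mem_range.mpr hrk)
    unfold addOK at h0
    simp only [Bool.and_eq_true, decide_eq_true_eq, List.all_eq_true, List.mem_range] at h0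
    exact (h0.2 r hr).1.1
  refine ⟨fun l u => lvlF D (ws.getD l []) u / d, ?_, ?_, ?_⟩
  · intro l hl r hr
    have h1 := (hA l hl r hr).1
    have h2 := hdiv l hl r hr
    have h3 := hdiv l hl (D.neg r) (hneglt r hr)
    show lvlF D (ws.getD l []) (D.neg r) / d = - (lvlF D (ws.getD l []) r / d)
    apply mul_left_cancel₀ hd
    rw [h3, h1, mul_neg, h2]
  · intro l hl r s k hr hs hk
    obtain ⟨hklt, M, hM⟩ := chainRoot_one_spec D hchain r s k hr hk
    have h1 := (hA l hl r hr).2 s k _ hM
    have h2 := hdiv l hl r hr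
    have h3 := hdiv l hl s hs
    have h4 := hdiv l hl k hklt
    show lvlF D (ws.getD l []) k / d = lvlF D (ws.getD l []) r / d + lvlF D (ws.getD l []) s / d
    apply mul_left_cancel₀ hd
    rw [h4, mul_add, h2, h3, h1]
    push_cast
    ring
  · intro l hl j hj
    obtain ⟨-, h1⟩ := hsim l hl j hj
    show lvlF D (ws.getD l []) (D.simple j) / d = if j = l then 1 else 0
    rw [h1]
    split_ifs
    · exact Int.ediv_self hd
    · exact Int.zero_ediv d

/-- a character of the root lattice with prescribed values at the fundamental roots -/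
theorem exists_rootCharacter {F : Type*} [Field F] (D : ChevalleyDatum)
    (hD : D ∈ [chevG2, chevB2, chevD4, chevF4, chevE6, chevE7, chevE8]) (c : ℕ → Fˣ) :
    ∃ χ : ℕ → Fˣ, D.IsRootCharacter χ ∧ ∀ j < D.rank, χ (D.simple j) = c j := by
  obtain ⟨m, hm1, hm2, hm3⟩ := exists_rootCoef D hD
  refine ⟨fun r => ∏ l ∈ Finset.range D.rank, c l ^ m l r, ⟨?_, ?_⟩, ?_⟩
  · intro r hr
    show (∏ l ∈ Finset.range D.rank, c l ^ m l (D.neg r)) = (∏ l ∈ Finset.range D.rank, c l ^ m l r)⁻¹
    rw [← Finset.prod_inv_distrib]
    apply Finset.prod_congr rfl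
    intro l hl
    rw [hm1 l (Finset.mem_range.mp hl) r hr, zpow_neg]
  · intro r s k hr hs hk
    show (∏ l ∈ Finset.range D.rank, c l ^ m l k) =
      (∏ l ∈ Finset.range D.rank, c l ^ m l r) * ∏ l ∈ Finset.range D.rank, c l ^ m l s
    rw [← Finset.prod_mul_distrib]
    apply Finset.prod_congr rfl
    intro l hl
    rw [hm2 l (Finset.mem_range.mp hl) r s k hr hs hk, zpow_add]
  · intro j hj
    show (∏ l ∈ Finset.range D.rank, c l ^ m l (D.simple j)) = c j
    have e : ∀ l ∈ Finset.range D.rank, c l ^ m l (D.simple j) = if j = l then c j else 1 := by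
      intro l hl
      rw [hm3 l (Finset.mem_range.mp hl) j hj]
      by_cases h : j = l
      · subst h
        simp
      · simp [h]
    rw [Finset.prod_congr rfl e, Finset.prod_ite_eq]
    simp [hj]

end Cfsg.Agent.Helper18.Aut
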