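import Cfsg.Agent.Helper18.Aut.GraphEx

/-!
Helper18: from the functional equations satisfied by an automorphism normalised as in `chev_step12`, the
permutation of the nodes is a symmetry of the diagram, the field automorphisms on the fundamental root subgroups
come from a single one (with the exponents of a graph automorphism), and the graph automorphism exists.
-/

set_option autoImplicit false
set_option maxRecDepth 100000

namespace Cfsg.Agent.Helper18.Aut

open Cfsg Cfsg.Lie Cfsg.Agent.Helper18 Cfsg.Agent.Helper36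

section Generic

variable {F : Type*} [Field F] (D : ChevalleyDatum)
  (hD : D ∈ [chevG2, chevB2, chevD4, chevF4, chevE6, chevE7, chevE8])

theorem rank_pos' (D : ChevalleyDatum)
    (hD : D ∈ [chevG2, chevB2, chevD4, chevF4, chevE6, chevE7, chevE8]) : 0 < D.rank := by
  simp only [List.mem_cons, List.not_mem_nil, or_false] at hD
  rcases hD with rfl | rfl | rfl | rfl | rfl | rfl | rfl <;> decide

theorem sigma_eq_of_neg_one (π : Equiv.Perm (Fin D.rank)) (σ : Fin D.rank → F ≃+* F)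
    (R1 : ∀ (i k : Fin D.rank) (t : F), t ≠ 0 →
      σ k t ^ (D.cartan i (D.simple k)) = σ i t ^ (D.cartan (π i) (D.simple (π k))))
    (i k : Fin D.rank) (h1 : D.cartan i (D.simple k) = -1) (h2 : D.cartan (π i) (D.simple (π k)) = -1) :
    σ k = σ i := by
  apply RingEquiv.ext
  intro t
  by_cases ht : t = 0
  · subst ht
    simp
  · have h := R1 i k t ht
    rw [h1, h2, zpow_neg_one, zpow_neg_one, inv_inj] at h
    exact h

include hD in
/-- if the permutation preserves the Cartan integers, all the field automorphisms agree -/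
theorem analysis_cartan (π : Equiv.Perm (Fin D.rank)) (σ : Fin D.rank → F ≃+* F)
    (R1 : ∀ (i k : Fin D.rank) (t : F), t ≠ 0 →
      σ k t ^ (D.cartan i (D.simple k)) = σ i t ^ (D.cartan (π i) (D.simple (π k))))
    (hA : ∀ i k : Fin D.rank, D.cartan (π i) (D.simple (π k)) = D.cartan i (D.simple k)) :
    D.IsDiagramSymmetry π ∧ ∃ σ₀ : F ≃+* F, ∀ i, σ i = σ₀ := by
  constructor
  · intro i j _
    unfold ChevalleyDatum.bonds
    rw [hA i j, hA j i]
  · have hrk : 0 < D.rank := rank_pos' D hD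
    refine ⟨σ ⟨0, hrk⟩, ?_⟩
    obtain ⟨ord, hord⟩ := exists_tree D hD
    have key := treeOK_spec D (fun j => ∀ hj : j < D.rank, σ ⟨j, hj⟩ = σ ⟨0, hrk⟩) ?_ ord [0] hord ?_
    · intro i
      exact key i.val i.2 i.2
    · intro c p hc hp hb hP hc'
      rw [← hP hp]
      by_cases hcp : c = p
      · subst hcp
        rfl
      · obtain ⟨-, -, -, -, -, -, -, -, h9⟩ := fund_spec D hD c p hc hp hcp
        rcases h9 with h | h | h
        · exact absurd h hb
        · exact (sigma_eq_of_neg_one D π σ R1 ⟨c, hc⟩ ⟨p, hp⟩ h (by rw [hA]; exact h)).symm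
        · exact sigma_eq_of_neg_one D π σ R1 ⟨p, hp⟩ ⟨c, hc⟩ h (by rw [hA]; exact h)
    · intro r hr
      rw [List.mem_singleton] at hr
      subst hr
      intro _
      rfl

/-- the off-diagonal Cartan integers are `0` or `-1`, with a symmetric pattern of zeros -/
def slOK (D : ChevalleyDatum) : Bool :=
  (List.range D.rank).all fun i => (List.range D.rank).all fun k => (i == k) ||
    ((decide (D.cartan i (D.simple k) = 0) || decide (D.cartan i (D.simple k) = -1)) &&
     (decide (D.cartan i (D.simple k) = 0) == decide (D.cartan k (D.simple i) = 0)))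

theorem slOK_spec (h : slOK D = true) (i k : ℕ) (hi : i < D.rank) (hk : k < D.rank) (hik : i ≠ k) :
    (D.cartan i (D.simple k) = 0 ∨ D.cartan i (D.simple k) = -1) ∧
    (D.cartan i (D.simple k) = 0 ↔ D.cartan k (D.simple i) = 0) := by
  unfold slOK at h
  rw [List.all_eq_true] at h
  have h1 := h i (List.mem_range.mpr hi)
  rw [List.all_eq_true] at h1
  have h2 := h1 k (List.mem_range.mpr hk)
  have hne : (i == k) = false := by simpa using hik
  rw [hne, Bool.false_or] at h2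
  simp only [Bool.and_eq_true, Bool.or_eq_true, decide_eq_true_eq, beq_iff_eq, decide_eq_decide] at h2
  exact h2

include hD in
theorem cartan_pres_of_sl (hsl : slOK D = true) (π : Equiv.Perm (Fin D.rank))
    (R2 : ∀ i k : Fin D.rank, i ≠ k → (D.bonds (π i) (π k) = 0 ↔ D.bonds i k = 0)) :
    ∀ i k : Fin D.rank, D.cartan (π i) (D.simple (π k)) = D.cartan i (D.simple k) := by
  intro i k
  by_cases hik : i = k
  · subst hik
    rw [cartan_simple_self D hD _ i.2, cartan_simple_self D hD _ (π i).2]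
  · have hik' : i.val ≠ k.val := fun e => hik (Fin.ext e)
    have hπik : (π i).val ≠ (π k).val := fun e => hik (π.injective (Fin.ext e))
    obtain ⟨h1, h2⟩ := slOK_spec D hsl i k i.2 k.2 hik'
    obtain ⟨h3, h4⟩ := slOK_spec D hsl (π i) (π k) (π i).2 (π k).2 hπik
    have hb : D.bonds i k = 0 ↔ D.cartan i (D.simple k) = 0 := by
      unfold ChevalleyDatum.bonds
      rw [mul_eq_zero, ← h2, or_self]
    have hb' : D.bonds (π i) (π k) = 0 ↔ D.cartan (π i) (D.simple (π k)) = 0 := by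
      unfold ChevalleyDatum.bonds
      rw [mul_eq_zero, ← h4, or_self]
    have h5 := R2 i k hik
    rw [hb, hb'] at h5
    rcases h1 with a | a <;> rcases h3 with b | b
    · rw [a, b]
    · have := h5.mpr a
      omega
    · have := h5.mp b
      omega
    · rw [a, b]

/-- refinement of an invariant of the nodes of the diagram -/
theorem refine_inv (π : Equiv.Perm (Fin D.rank)) (hπ : D.IsDiagramSymmetry π) (c c' : Fin D.rank → ℕ)
    (hc : ∀ i, c (π i) = c i)
    (hc' : ∀ i, c' i = ∑ k : Fin D.rank, if i ≠ k ∧ D.bonds i k ≠ 0 then c k else 0) :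
    ∀ i, c' (π i) = c' i := by
  intro i
  rw [hc', hc', ← Equiv.sum_comp π]
  apply Finset.sum_congr rfl
  intro k _
  by_cases hik : i = k
  · subst hik
    simp
  · have hne : π i ≠ π k := fun e => hik (π.injective e)
    rw [hπ i k hik, hc k]
    simp [hik, hne]

theorem perm_eq_one_of_inv (π : Equiv.Perm (Fin D.rank)) (hπ : D.IsDiagramSymmetry π)
    (c1 c2 c3 : Fin D.rank → ℕ)
    (h1 : ∀ i, c1 i = ∑ k : Fin D.rank, if i ≠ k ∧ D.bonds i k ≠ 0 then 1 else 0)
    (h2 : ∀ i, c2 i = ∑ k : Fin D.rank, if i ≠ k ∧ D.bonds i k ≠ 0 then c1 k else 0)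
    (h3 : ∀ i, c3 i = ∑ k : Fin D.rank, if i ≠ k ∧ D.bonds i k ≠ 0 then c2 k else 0)
    (hsep : ∀ i j, c1 i = c1 j → c2 i = c2 j → c3 i = c3 j → i = j) : π = 1 := by
  have e1 := refine_inv D π hπ (fun _ => 1) c1 (fun _ => rfl) h1
  have e2 := refine_inv D π hπ c1 c2 e1 h2
  have e3 := refine_inv D π hπ c2 c3 e2 h3
  ext i : 1
  rw [Equiv.Perm.one_apply]
  exact hsep _ _ (e1 i) (e2 i) (e3 i)

end Generic

theorem slOK_D4 : slOK chevD4 = true := by decide +kernel
theorem slOK_E6 : slOK chevE6 = true := by decide +kernel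
theorem slOK_E7 : slOK chevE7 = true := by decide +kernel
theorem slOK_E8 : slOK chevE8 = true := by decide +kernel

def c1E7 : Fin chevE7.rank → ℕ := fun i => ([1, 1, 2, 3, 2, 2, 1] : List ℕ).getD i.val 0
def c2E7 : Fin chevE7.rank → ℕ := fun i => ([2, 3, 4, 5, 5, 3, 2] : List ℕ).getD i.val 0
def c3E7 : Fin chevE7.rank → ℕ := fun i => ([4, 5, 7, 12, 8, 7, 3] : List ℕ).getD i.val 0
def c1E8 : Fin chevE8.rank → ℕ := fun i => ([1, 1, 2, 3, 2, 2, 2, 1] : List ℕ).getD i.val 0
def c2E8 : Fin chevE8.rank → ℕ := fun i => ([2, 3, 4, 5, 5, 4, 3, 2] : List ℕ).getD i.val 0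
def c3E8 : Fin chevE8.rank → ℕ := fun i => ([4, 5, 7, 12, 9, 8, 6, 3] : List ℕ).getD i.val 0

theorem c1E7_ok : ∀ i, c1E7 i = ∑ k : Fin chevE7.rank, if i ≠ k ∧ chevE7.bonds i k ≠ 0 then 1 else 0 := by
  decide +kernel
theorem c2E7_ok : ∀ i, c2E7 i = ∑ k : Fin chevE7.rank, if i ≠ k ∧ chevE7.bonds i k ≠ 0 then c1E7 k else 0 := by
  decide +kernel
theorem c3E7_ok : ∀ i, c3E7 i = ∑ k : Fin chevE7.rank, if i ≠ k ∧ chevE7.bonds i k ≠ 0 then c2E7 k else 0 := by
  decide +kernel
theorem sepE7 : ∀ i j, c1E7 i = c1E7 j → c2E7 i = c2E7 j → c3E7 i = c3E7 j → i = j := by decide +kernel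
theorem c1E8_ok : ∀ i, c1E8 i = ∑ k : Fin chevE8.rank, if i ≠ k ∧ chevE8.bonds i k ≠ 0 then 1 else 0 := by
  decide +kernel
theorem c2E8_ok : ∀ i, c2E8 i = ∑ k : Fin chevE8.rank, if i ≠ k ∧ chevE8.bonds i k ≠ 0 then c1E8 k else 0 := by
  decide +kernel
theorem c3E8_ok : ∀ i, c3E8 i = ∑ k : Fin chevE8.rank, if i ≠ k ∧ chevE8.bonds i k ≠ 0 then c2E8 k else 0 := by
  decide +kernel
theorem sepE8 : ∀ i j, c1E8 i = c1E8 j → c2E8 i = c2E8 j → c3E8 i = c3E8 j → i = j := by decide +kernel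

theorem permE7 (π : Equiv.Perm (Fin chevE7.rank)) (hπ : chevE7.IsDiagramSymmetry π) : π = 1 :=
  perm_eq_one_of_inv chevE7 π hπ c1E7 c2E7 c3E7 c1E7_ok c2E7_ok c3E7_ok sepE7

theorem permE8 (π : Equiv.Perm (Fin chevE8.rank)) (hπ : chevE8.IsDiagramSymmetry π) : π = 1 :=
  perm_eq_one_of_inv chevE8 π hπ c1E8 c2E8 c3E8 c1E8_ok c2E8_ok c3E8_ok sepE8

theorem permB2 : ∀ π : Equiv.Perm (Fin chevB2.rank), π = 1 ∨ π = Equiv.swap b20 b21 := by decide +kernel
theorem permG2 : ∀ π : Equiv.Perm (Fin chevG2.rank), π = 1 ∨ π = Equiv.swap g20 g21 := by decide +kernel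
theorem permF4 : ∀ π : Equiv.Perm (Fin chevF4.rank),
    (∀ i k : Fin chevF4.rank, i ≠ k → (chevF4.bonds (π i) (π k) = 0 ↔ chevF4.bonds i k = 0)) →
    π = 1 ∨ π = Equiv.swap f40 f43 * Equiv.swap f41 f42 := by decide +kernel

theorem symB2 : chevB2.IsDiagramSymmetry (Equiv.swap b20 b21) := by
  unfold ChevalleyDatum.IsDiagramSymmetry
  decide +kernel
theorem symG2 : chevG2.IsDiagramSymmetry (Equiv.swap g20 g21) := by
  unfold ChevalleyDatum.IsDiagramSymmetry
  decide +kernel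
theorem symF4 : chevF4.IsDiagramSymmetry (Equiv.swap f40 f43 * Equiv.swap f41 f42) := by
  unfold ChevalleyDatum.IsDiagramSymmetry
  decide +kernel


section Main

variable {F : Type*} [Field F]

/-- the conclusion of the analysis -/
def Outcome (F : Type*) [Field F] (D : ChevalleyDatum)
    (hD : D ∈ [chevG2, chevB2, chevD4, chevF4, chevE6, chevE7, chevE8]) (π : Equiv.Perm (Fin D.rank))
    (σ : Fin D.rank → F ≃+* F) : Prop :=
  D.IsDiagramSymmetry π ∧
    (∃ σ₀ : F ≃+* F, ∀ i t, σ i t = (σ₀ t) ^ D.graphExp (ringChar F) i (π i)) ∧ GraphEx F D hD π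

theorem outcome_of_cartan (D : ChevalleyDatum)
    (hD : D ∈ [chevG2, chevB2, chevD4, chevF4, chevE6, chevE7, chevE8]) (π : Equiv.Perm (Fin D.rank))
    (σ : Fin D.rank → F ≃+* F)
    (R1 : ∀ (i k : Fin D.rank) (t : F), t ≠ 0 →
      σ k t ^ (D.cartan i (D.simple k)) = σ i t ^ (D.cartan (π i) (D.simple (π k))))
    (hA : ∀ i k : Fin D.rank, D.cartan (π i) (D.simple (π k)) = D.cartan i (D.simple k))
    (hexp : ∀ i : Fin D.rank, D.graphExp (ringChar F) i (π i) = 1) (hg : GraphEx F D hD π) :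
    Outcome F D hD π σ := by
  obtain ⟨h1, σ₀, h2⟩ := analysis_cartan D hD π σ R1 hA
  refine ⟨h1, ⟨σ₀, fun i t => ?_⟩, hg⟩
  rw [hexp, pow_one, h2]

theorem outcome_sl (D : ChevalleyDatum)
    (hD : D ∈ [chevG2, chevB2, chevD4, chevF4, chevE6, chevE7, chevE8])
    (hsl : slOK D = true) (hnl : ∀ j < D.rank, D.isLong (D.simple j) = false)
    (π : Equiv.Perm (Fin D.rank)) (σ : Fin D.rank → F ≃+* F)
    (R1 : ∀ (i k : Fin D.rank) (t : F), t ≠ 0 →
      σ k t ^ (D.cartan i (D.simple k)) = σ i t ^ (D.cartan (π i) (D.simple (π k))))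
    (R2 : ∀ i k : Fin D.rank, i ≠ k → (D.bonds (π i) (π k) = 0 ↔ D.bonds i k = 0))
    (hcls : D.IsDiagramSymmetry π → GraphEx F D hD π) : Outcome F D hD π σ := by
  have hA := cartan_pres_of_sl D hD hsl π R2
  have hsym := (analysis_cartan D hD π σ R1 hA).1
  exact outcome_of_cartan D hD π σ R1 hA (fun i => graphExp_of_notLong D hnl _ _ _ (π i).2) (hcls hsym)

theorem outcome_one (D : ChevalleyDatum)
    (hD : D ∈ [chevG2, chevB2, chevD4, chevF4, chevE6, chevE7, chevE8])
    (σ : Fin D.rank → F ≃+* F)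
    (R1 : ∀ (i k : Fin D.rank) (t : F), t ≠ 0 →
      σ k t ^ (D.cartan i (D.simple k)) =
        σ i t ^ (D.cartan ((1 : Equiv.Perm (Fin D.rank)) i) (D.simple ((1 : Equiv.Perm (Fin D.rank)) k)))) :
    Outcome F D hD 1 σ :=
  outcome_of_cartan D hD 1 σ R1 (fun _ _ => rfl) (fun i => graphExp_self D _ i) (graphEx_one D hD)

theorem zpow_rel {a b : F} (n : ℕ) (h : a ^ (-(n : ℤ)) = b ^ (-1 : ℤ)) : b = a ^ n := by
  rw [zpow_neg, zpow_neg, inv_inj, zpow_one, zpow_natCast] at h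
  exact h.symm

theorem finB2 : ∀ i : Fin chevB2.rank, i = b20 ∨ i = b21 := by decide
theorem finG2 : ∀ i : Fin chevG2.rank, i = g20 ∨ i = g21 := by decide
theorem finF4 : ∀ i : Fin chevF4.rank, i = f40 ∨ i = f41 ∨ i = f42 ∨ i = f43 := by decide

theorem outcome_B2 [Finite F] (σ : Fin chevB2.rank → F ≃+* F)
    (R1 : ∀ (i k : Fin chevB2.rank) (t : F), t ≠ 0 →
      σ k t ^ (chevB2.cartan i (chevB2.simple k)) =
        σ i t ^ (chevB2.cartan (Equiv.swap b20 b21 i) (chevB2.simple (Equiv.swap b20 b21 k)))) :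
    Outcome F chevB2 hB2 (Equiv.swap b20 b21) σ := by
  have hsq : ∀ t, t ≠ 0 → σ b20 t = σ b21 t ^ 2 := by
    intro t ht
    have h := R1 b20 b21 t ht
    have e1 : chevB2.cartan (b20 : ℕ) (chevB2.simple (b21 : ℕ)) = -((2 : ℕ) : ℤ) := by decide
    have e2 : chevB2.cartan ((Equiv.swap b20 b21 b20 : Fin chevB2.rank) : ℕ)
        (chevB2.simple ((Equiv.swap b20 b21 b21 : Fin chevB2.rank) : ℕ)) = -1 := by decide
    rw [e1, e2] at h
    exact zpow_rel 2 h
  have h2 := char_two_of_sq (σ b20) (σ b21) hsq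
  refine ⟨symB2, ⟨σ b21, ?_⟩, graphEx_B2 h2⟩
  intro i t
  rw [h2]
  rcases finB2 i with rfl | rfl
  · have e : chevB2.graphExp 2 (b20 : ℕ) ((Equiv.swap b20 b21 b20 : Fin chevB2.rank) : ℕ) = 2 :=
      (expB2 b20).symm
    rw [e]
    by_cases ht : t = 0
    · subst ht
      simp
    · exact hsq t ht
  · have e : chevB2.graphExp 2 (b21 : ℕ) ((Equiv.swap b20 b21 b21 : Fin chevB2.rank) : ℕ) = 1 :=
      (expB2 b21).symm
    rw [e, pow_one]

theorem outcome_G2 [Finite F] (σ : Fin chevG2.rank → F ≃+* F)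
    (R1 : ∀ (i k : Fin chevG2.rank) (t : F), t ≠ 0 →
      σ k t ^ (chevG2.cartan i (chevG2.simple k)) =
        σ i t ^ (chevG2.cartan (Equiv.swap g20 g21 i) (chevG2.simple (Equiv.swap g20 g21 k))))
    (hF2 : ¬ ∀ t : F, t = 0 ∨ t = 1) :
    Outcome F chevG2 hG2 (Equiv.swap g20 g21) σ := by
  have hcu : ∀ t, t ≠ 0 → σ g20 t = σ g21 t ^ 3 := by
    intro t ht
    have h := R1 g20 g21 t ht
    have e1 : chevG2.cartan (g20 : ℕ) (chevG2.simple (g21 : ℕ)) = -((3 : ℕ) : ℤ) := by decide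
    have e2 : chevG2.cartan ((Equiv.swap g20 g21 g20 : Fin chevG2.rank) : ℕ)
        (chevG2.simple ((Equiv.swap g20 g21 g21 : Fin chevG2.rank) : ℕ)) = -1 := by decide
    rw [e1, e2] at h
    exact zpow_rel 3 h
  have h3 : ringChar F = 3 := by
    rcases char_three_of_cube (σ g20) (σ g21) hcu with h | h
    · exact h
    · exact absurd h hF2
  refine ⟨symG2, ⟨σ g21, ?_⟩, graphEx_G2 h3⟩
  intro i t
  rw [h3]
  rcases finG2 i with rfl | rfl
  · have e : chevG2.graphExp 3 (g20 : ℕ) ((Equiv.swap g20 g21 g20 : Fin chevG2.rank) : ℕ) = 3 :=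
      (expG2 g20).symm
    rw [e]
    by_cases ht : t = 0
    · subst ht
      simp
    · exact hcu t ht
  · have e : chevG2.graphExp 3 (g21 : ℕ) ((Equiv.swap g20 g21 g21 : Fin chevG2.rank) : ℕ) = 1 :=
      (expG2 g21).symm
    rw [e, pow_one]

theorem outcome_F4 [Finite F] (σ : Fin chevF4.rank → F ≃+* F)
    (R1 : ∀ (i k : Fin chevF4.rank) (t : F), t ≠ 0 →
      σ k t ^ (chevF4.cartan i (chevF4.simple k)) =
        σ i t ^ (chevF4.cartan ((Equiv.swap f40 f43 * Equiv.swap f41 f42) i)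
          (chevF4.simple ((Equiv.swap f40 f43 * Equiv.swap f41 f42) k)))) :
    Outcome F chevF4 hF4 (Equiv.swap f40 f43 * Equiv.swap f41 f42) σ := by
  have h01 : σ f41 = σ f40 :=
    sigma_eq_of_neg_one chevF4 (Equiv.swap f40 f43 * Equiv.swap f41 f42) σ R1 f40 f41 (by decide) (by decide)
  have h23 : σ f43 = σ f42 :=
    sigma_eq_of_neg_one chevF4 (Equiv.swap f40 f43 * Equiv.swap f41 f42) σ R1 f42 f43 (by decide) (by decide)
  have hsq : ∀ t, t ≠ 0 → σ f41 t = σ f42 t ^ 2 := by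
    intro t ht
    have h := R1 f41 f42 t ht
    have e1 : chevF4.cartan (f41 : ℕ) (chevF4.simple (f42 : ℕ)) = -((2 : ℕ) : ℤ) := by decide
    have e2 : chevF4.cartan (((Equiv.swap f40 f43 * Equiv.swap f41 f42) f41 : Fin chevF4.rank) : ℕ)
        (chevF4.simple (((Equiv.swap f40 f43 * Equiv.swap f41 f42) f42 : Fin chevF4.rank) : ℕ)) = -1 := by
      decide
    rw [e1, e2] at h
    exact zpow_rel 2 h
  have h2 := char_two_of_sq (σ f41) (σ f42) hsq
  refine ⟨symF4, ⟨σ f42, ?_⟩, graphEx_F4 h2⟩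
  intro i t
  rw [h2]
  rcases finF4 i with rfl | rfl | rfl | rfl
  · have e : chevF4.graphExp 2 (f40 : ℕ)
        (((Equiv.swap f40 f43 * Equiv.swap f41 f42) f40 : Fin chevF4.rank) : ℕ) = 2 := (expF4 f40).symm
    rw [e, ← h01]
    by_cases ht : t = 0
    · subst ht
      simp
    · exact hsq t ht
  · have e : chevF4.graphExp 2 (f41 : ℕ)
        (((Equiv.swap f40 f43 * Equiv.swap f41 f42) f41 : Fin chevF4.rank) : ℕ) = 2 := (expF4 f41).symm
    rw [e]
    by_cases ht : t = 0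
    · subst ht
      simp
    · exact hsq t ht
  · have e : chevF4.graphExp 2 (f42 : ℕ)
        (((Equiv.swap f40 f43 * Equiv.swap f41 f42) f42 : Fin chevF4.rank) : ℕ) = 1 := (expF4 f42).symm
    rw [e, pow_one]
  · have e : chevF4.graphExp 2 (f43 : ℕ)
        (((Equiv.swap f40 f43 * Equiv.swap f41 f42) f43 : Fin chevF4.rank) : ℕ) = 1 := (expF4 f43).symm
    rw [e, pow_one, h23]

/-- the analysis of the types -/
theorem type_analysis [Finite F] (D : ChevalleyDatum)
    (hD : D ∈ [chevG2, chevB2, chevD4, chevF4, chevE6, chevE7, chevE8])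
    (π : Equiv.Perm (Fin D.rank)) (σ : Fin D.rank → F ≃+* F)
    (R1 : ∀ (i k : Fin D.rank) (t : F), t ≠ 0 →
      σ k t ^ (D.cartan i (D.simple k)) = σ i t ^ (D.cartan (π i) (D.simple (π k))))
    (R2 : ∀ i k : Fin D.rank, i ≠ k → (D.bonds (π i) (π k) = 0 ↔ D.bonds i k = 0))
    (hex : D = chevG2 → (∀ t : F, t = 0 ∨ t = 1) → π = 1) :
    Outcome F D hD π σ := by
  have hD' := hD
  simp only [List.mem_cons, List.not_mem_nil, or_false] at hD'
  rcases hD' with rfl | rfl | rfl | rfl | rfl | rfl | rfl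
  · rcases permG2 π with rfl | rfl
    · exact outcome_one chevG2 hD σ R1
    · by_cases hF2 : ∀ t : F, t = 0 ∨ t = 1
      · have := hex rfl hF2
        exact absurd this (by decide)
      · exact outcome_G2 σ R1 hF2
  · rcases permB2 π with rfl | rfl
    · exact outcome_one chevB2 hD σ R1
    · exact outcome_B2 σ R1
  · exact outcome_sl chevD4 hD slOK_D4 notLong_D4 π σ R1 R2 (fun h => graphEx_D4 π (symD4 π h))
  · rcases permF4 π R2 with rfl | rfl
    · exact outcome_one chevF4 hD σ R1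
    · exact outcome_F4 σ R1
  · exact outcome_sl chevE6 hD slOK_E6 notLong_E6 π σ R1 R2 (fun h => graphEx_E6 π (symE6 π h))
  · refine outcome_sl chevE7 hD slOK_E7 notLong_E7 π σ R1 R2 (fun h => ?_)
    rw [permE7 π h]
    exact graphEx_one chevE7 hD
  · refine outcome_sl chevE8 hD slOK_E8 notLong_E8 π σ R1 R2 (fun h => ?_)
    rw [permE8 π h]
    exact graphEx_one chevE8 hD

end Main

end Cfsg.Agent.Helper18.Aut
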